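import Mathlib
import Cfsg.Prelude.Def_DegreeGraph
import Cfsg.Agent.S0887
import Cfsg.Agent.S4456
import Cfsg.Agent.S4458
import Cfsg.Agent.BlockCharsA.Garrison
import Cfsg.Agent.BlocksChars.DerivedLength
import Cfsg.Agent.BlocksChars.Palfy.Degrees
import Cfsg.Agent.BlocksChars.IsaacsOdd.InvCase
import Cfsg.Agent.BlocksChars.PrimeDegrees

/-!
# Three character degrees: generalities
-/

set_option autoImplicit false
set_option linter.style.haveILetI false
set_option linter.unusedSectionVars false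

namespace Cfsg.Agent.BlocksChars.ThreeDegrees

open Cfsg.Agent.Characters Cfsg.Agent.CharTheory Cfsg.Agent.BlocksChars.Degrees
open scoped commutatorElement

universe u

variable {G : Type u} [Group G] [Finite G]

theorem charDegree_eq {χ : G → ℂ} (hχ : Cfsg.IsCharacter G χ) {n : ℕ} (h : χ 1 = (n : ℂ)) :
    Cfsg.charDegree χ = n :=
  Nat.cast_injective (R := ℂ) ((charDegree_cast_of_isCharacter hχ).trans h)

theorem deg_mem (χ : Cfsg.IrrCharacter G) : Cfsg.charDegree (χ : G → ℂ) ∈ Cfsg.charDegrees G :=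
  ⟨χ, rfl⟩

theorem one_mem_degrees : 1 ∈ Cfsg.charDegrees G :=
  ⟨trivIrr G, charDegree_eq (irr_isCharacter _) (by simp)⟩

theorem pos_of_mem {d : ℕ} (hd : d ∈ Cfsg.charDegrees G) : 0 < d := by
  obtain ⟨χ, rfl⟩ := hd
  exact charDegree_pos χ

theorem mem_of_quotient (K : Subgroup G) [K.Normal] {d : ℕ} (hd : d ∈ Cfsg.charDegrees (G ⧸ K)) :
    d ∈ Cfsg.charDegrees G := by
  obtain ⟨β, rfl⟩ := hd
  refine ⟨⟨_, isIrrCharacter_comp_surjective _ (QuotientGroup.mk'_surjective K) β.2⟩, ?_⟩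
  simp [Cfsg.charDegree]

/-- A degree over a character of a normal subgroup. -/
theorem exists_over_degree (N : Subgroup G) [N.Normal] {d : ℕ} (hd : d ∈ Cfsg.charDegrees N) :
    ∃ c ∈ Cfsg.charDegrees G, d ∣ c ∧ c ∣ d * N.index := by
  classical
  haveI := Fintype.ofFinite G
  haveI := Fintype.ofFinite N
  obtain ⟨φ, rfl⟩ := hd
  obtain ⟨χ, hχ⟩ := DerivedLength.exists_over_constituent N φ
  obtain ⟨h1, h2⟩ := Cfsg.Agent.S0887.result N (χ : G → ℂ) χ.2 (φ : N → ℂ) φ.2 hχ _ _
    (charDegree_cast χ).symm (charDegree_cast φ).symm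
  refine ⟨_, deg_mem χ, h1, ?_⟩
  obtain ⟨k, hk⟩ := h1
  rw [hk, Nat.mul_div_cancel_left _ (charDegree_pos φ)] at h2
  exact hk ▸ mul_dvd_mul_left _ h2

/-- Two coprime-to-index constituents under one degree agree. -/
theorem eq_of_dvd {a b c i : ℕ} (ha : a ∣ c) (hb : b ∣ c) (hca : c ∣ a * i) (hcb : c ∣ b * i)
    (hai : a.Coprime i) (hbi : b.Coprime i) : a = b :=
  Nat.dvd_antisymm (hai.dvd_of_dvd_mul_right (ha.trans hcb))
    (hbi.dvd_of_dvd_mul_right (hb.trans hca))

/-- All nonlinear degrees equal: the derived subgroup is abelian. -/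
theorem derived_two (h : ∀ a ∈ Cfsg.charDegrees G, ∀ b ∈ Cfsg.charDegrees G, a ≠ 1 → b ≠ 1 → a = b) :
    ⁅commutator G, commutator G⁆ = ⊥ := by
  have hab : ∀ a ∈ commutator G, ∀ b ∈ commutator G, a * b = b * a := by
    by_cases hall : ∀ χ : Cfsg.IrrCharacter G, Cfsg.charDegree (χ : G → ℂ) = 1
    · have hc := ItoPSolvable.comm_of_linear hall
      exact fun a _ b _ => hc.is_comm.comm a b
    push Not at hall
    obtain ⟨χ₀, hχ₀⟩ := hall
    refine Cfsg.Agent.S4458.result _ (fun χ => ?_) ⟨χ₀, rfl⟩ hχ₀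
    by_cases hχ : Cfsg.charDegree (χ : G → ℂ) = 1
    · exact Or.inl hχ
    · exact Or.inr (h _ (deg_mem χ) _ (deg_mem χ₀) hχ hχ₀)
  rw [Subgroup.commutator_eq_bot_iff_le_centralizer]
  exact fun a ha => Subgroup.mem_centralizer_iff.2 fun b hb => (hab a ha b hb).symm

/-- The second derived subgroup of a subgroup with one nonlinear degree, inside the group. -/
theorem derived_two_sub (A : Subgroup G)
    (h : ∀ a ∈ Cfsg.charDegrees A, ∀ b ∈ Cfsg.charDegrees A, a ≠ 1 → b ≠ 1 → a = b) :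
    ⁅⁅A, A⁆, ⁅A, A⁆⁆ = ⊥ := by
  have e : (commutator A).map A.subtype = ⁅A, A⁆ := by
    rw [commutator_def, Subgroup.map_commutator, ← MonoidHom.range_eq_map, Subgroup.range_subtype]
  rw [← e, ← Subgroup.map_commutator, derived_two h, Subgroup.map_bot]

theorem derived_three_eq_bot {B : Subgroup G} (hB : derivedSeries G 2 ≤ B) (h : ⁅B, B⁆ = ⊥) :
    derivedSeries G 3 = ⊥ := by
  rw [derivedSeries_succ]
  exact le_bot_iff.1 (h ▸ Subgroup.commutator_mono hB hB)

theorem derived_two_le {A : Subgroup G} (hA : derivedSeries G 1 ≤ A) :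
    derivedSeries G 2 ≤ ⁅A, A⁆ := by
  rw [derivedSeries_succ]
  exact Subgroup.commutator_mono hA hA

/-- A prime dividing all nonlinear degrees gives a normal complement. -/
theorem normal_complement {p : ℕ} (hp : p.Prime)
    (h : ∀ d ∈ Cfsg.charDegrees G, d ≠ 1 → p ∣ d) :
    ∃ N : Subgroup G, N.Normal ∧ (Nat.card N).Coprime p ∧ ∃ k : ℕ, N.index = p ^ k :=
  Cfsg.Agent.S4456.result p hp fun χ hχ => h _ (deg_mem χ) hχ

/-- An element killed by all linear characters is a product of commutators. -/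
theorem mem_commutator_of_linear (h : G) (hh : ∀ l : G →* ℂˣ, l h = 1) : h ∈ commutator G := by
  haveI : NeZero (Monoid.exponent (Abelianization G)) := ⟨Monoid.exponent_ne_zero_of_finite⟩
  by_contra hn
  have h1 : Abelianization.of h ≠ 1 := fun e =>
    hn ((Abelianization.ker_of G) ▸ MonoidHom.mem_ker.2 e)
  obtain ⟨φ, hφ⟩ :=
    CommGroup.exists_apply_ne_one_of_hasEnoughRootsOfUnity (Abelianization G) ℂ h1
  exact hφ (hh (φ.comp Abelianization.of))

theorem commutator_le_linear_ker {χ : G → ℂ} (hχ : Cfsg.IsCharacter G χ) (h1 : χ 1 = 1)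
    {x : G} (hx : x ∈ commutator G) : χ x = χ 1 := by
  obtain ⟨f, hf⟩ := ExtendChar.exists_hom hχ h1
  rw [← hf, ← hf, map_one, MonoidHom.mem_ker.1 (Abelianization.commutator_subset_ker f hx)]

/-- A subgroup fixing the linear characters of a coprime normal subgroup, with commutators
inside it, has commutators inside its derived subgroup. -/
theorem commutator_le_derived (H K : Subgroup G) [hH : H.Normal]
    (hcop : (Nat.card H).Coprime H.index)
    (hfix : ∀ l : H →* ℂˣ, ∀ k ∈ K, ∀ h : H, l (MulAut.conjNormal k h) = l h)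
    (hKK : ⁅K, K⁆ ≤ H) : ⁅K, K⁆ ≤ ⁅H, H⁆ := by
  haveI : (⁅H, H⁆).Normal := Subgroup.commutator_normal H H
  set π := QuotientGroup.mk' ⁅H, H⁆ with hπ
  have hcen : ∀ k ∈ K, ∀ h ∈ H, Commute (π k) (π h) := by
    intro k hk h hh
    rw [← commutatorElement_eq_one_iff_commute, ← map_commutatorElement]
    refine (QuotientGroup.eq_one_iff _).2 ?_
    have e : (commutator H).map H.subtype = ⁅H, H⁆ := by
      rw [commutator_def, Subgroup.map_commutator, ← MonoidHom.range_eq_map,
        Subgroup.range_subtype]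
    rw [← e]
    refine ⟨MulAut.conjNormal k ⟨h, hh⟩ * ⟨h, hh⟩⁻¹, mem_commutator_of_linear _ fun l => ?_, ?_⟩
    · rw [map_mul, map_inv, hfix l k hk, mul_inv_cancel]
    · simp [commutatorElement_def]
  rw [Subgroup.commutator_le]
  intro x hx y hy
  have hc : ⁅x, y⁆ ∈ H := hKK (Subgroup.commutator_mem_commutator hx hy)
  refine (QuotientGroup.eq_one_iff _).1 ?_
  show π ⁅x, y⁆ = 1
  set c := π ⁅x, y⁆ with hcdef
  have hxc : Commute (π x) c := hcen x hx _ hc
  have hrel : π x * π y = c * (π y * π x) := by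
    rw [hcdef, map_commutatorElement, commutatorElement_def]; group
  have hpow : ∀ j : ℕ, π x ^ j * π y = c ^ j * (π y * π x ^ j) := by
    intro j
    induction j with
    | zero => simp
    | succ j ih =>
      calc π x ^ (j + 1) * π y = π x * (π x ^ j * π y) := by rw [pow_succ']; group
        _ = π x * c ^ j * (π y * π x ^ j) := by rw [ih]; group
        _ = c ^ j * (π x * π y) * π x ^ j := by rw [(hxc.pow_right j).eq]; group
        _ = c ^ (j + 1) * (π y * π x ^ (j + 1)) := by rw [hrel, pow_succ c, pow_succ']; group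
  have h1 : c ^ H.index = 1 := by
    have h2 := hpow H.index
    have h3 : Commute (π y) (π (x ^ H.index)) := hcen y hy _ (H.pow_index_mem x)
    rw [map_pow] at h3
    rw [← h3.eq] at h2
    have h4 : π y * π x ^ H.index = 1 * (π y * π x ^ H.index) := (one_mul _).symm
    exact mul_right_cancel (h2.symm.trans h4)
  have h2 : c ^ Nat.card H = 1 := by
    have h3 : (⟨⁅x, y⁆, hc⟩ : H) ^ Nat.card H = 1 := pow_card_eq_one'
    rw [hcdef, ← map_pow, show ⁅x, y⁆ ^ Nat.card H = 1 from congrArg Subtype.val h3, map_one]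
  exact ExtendChar.eq_one_of_pow_coprime h1 h2 hcop.symm

end Cfsg.Agent.BlocksChars.ThreeDegrees
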