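import Cfsg.Agent.BlocksChars.ThreeDegrees.Basic

/-!
# Two coprime nonlinear degrees exclude a perfect derived subgroup
-/

set_option autoImplicit false
set_option linter.style.haveILetI false
set_option linter.unusedSectionVars false

namespace Cfsg.Agent.BlocksChars.ThreeDegrees

open Cfsg.Agent.Characters Cfsg.Agent.CharTheory Cfsg.Agent.BlocksChars.Degrees
open scoped commutatorElement ComplexConjugate

universe u

variable {G : Type u} [Group G] [Fintype G]

theorem classInner_mul_left (x y z : G → ℂ) :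
    Cfsg.classInner (x * y) z = Cfsg.classInner y ((fun g => conj (x g)) * z) := by
  rw [classInner_def, classInner_def]
  congr 1
  refine Finset.sum_congr rfl fun g _ => ?_
  simp only [Pi.mul_apply, map_mul, Complex.conj_conj]
  ring

/-- A constituent of a product, through a constituent of a factor. -/
theorem exists_constituent_mid {C η : G → ℂ} (F : G → ℂ) (hC : Cfsg.IsClassFunction G C)
    (h : Cfsg.classInner (F * C) η ≠ 0) :
    ∃ θ : Cfsg.IrrCharacter G, Cfsg.classInner C (θ : G → ℂ) ≠ 0 ∧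
      Cfsg.classInner (F * (θ : G → ℂ)) η ≠ 0 := by
  classical
  haveI := Fintype.ofFinite (Cfsg.IrrCharacter G)
  by_contra! hno
  apply h
  rw [classInner_mul_left, classInner_eq_sum _ hC]
  refine Finset.sum_eq_zero fun θ _ => ?_
  by_cases h0 : Cfsg.classInner C (θ : G → ℂ) = 0
  · rw [h0, zero_mul]
  · rw [← classInner_mul_left, hno θ h0, mul_zero]

/-- A product of characters of coprime degrees has constituents of one degree only. -/
theorem dichotomy {a b : ℕ} (ha : 2 ≤ a) (hb : 2 ≤ b) (hab : a.Coprime b)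
    (hD : ∀ d ∈ Cfsg.charDegrees G, d = 1 ∨ d = a ∨ d = b) {χ ψ η η' : Cfsg.IrrCharacter G}
    (hχ : Cfsg.charDegree (χ : G → ℂ) = a) (hψ : Cfsg.charDegree (ψ : G → ℂ) = b)
    (hη : Cfsg.classInner ((χ : G → ℂ) * (ψ : G → ℂ)) (η : G → ℂ) ≠ 0)
    (hη' : Cfsg.classInner ((χ : G → ℂ) * (ψ : G → ℂ)) (η' : G → ℂ) ≠ 0)
    (hηb : Cfsg.charDegree (η : G → ℂ) = b) : Cfsg.charDegree (η' : G → ℂ) = b := by
  classical
  haveI := Fintype.ofFinite (Cfsg.IrrCharacter G)
  have hne : a ≠ b := fun e => by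
    subst e
    rw [Nat.coprime_self] at hab
    omega
  have hc : Cfsg.IsCharacter G ((χ : G → ℂ) * (ψ : G → ℂ)) :=
    isCharacter_mul (irr_isCharacter χ) (irr_isCharacter ψ)
  choose c hcc using fun θ : Cfsg.IrrCharacter G => classInner_char_nat hc (irr_isCharacter θ)
  have hlin : ∀ θ : Cfsg.IrrCharacter G, Cfsg.charDegree (θ : G → ℂ) = 1 → c θ = 0 := by
    intro θ hθ
    have h1 : (θ : G → ℂ) 1 = 1 := by rw [← charDegree_cast, hθ, Nat.cast_one]
    have hirr : Cfsg.IsIrrCharacter G ((fun g => conj ((χ : G → ℂ) g)) * (θ : G → ℂ)) :=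
      Basics.isIrr_mul_linear (isIrrCharacter_conj χ.2) (irr_isCharacter θ) h1
    have h0 : Cfsg.classInner ((χ : G → ℂ) * (ψ : G → ℂ)) (θ : G → ℂ) = 0 := by
      rw [classInner_mul_left]
      refine classInner_isIrr_ne ψ.2 hirr fun e => hne ?_
      have e1 := congrFun e 1
      rw [Pi.mul_apply, h1, mul_one, ← charDegree_cast, ← charDegree_cast, hψ, hχ,
        Complex.conj_natCast, Nat.cast_inj] at e1
      exact e1.symm
    rw [hcc] at h0
    exact_mod_cast h0
  have hsum : a * b = ∑ θ : Cfsg.IrrCharacter G, c θ * Cfsg.charDegree (θ : G → ℂ) := by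
    have h := congrFun (classFun_eq_sum (char_isClassFunction hc)) 1
    simp only [Pi.mul_apply, Finset.sum_apply, Pi.smul_apply, smul_eq_mul, hcc, ← charDegree_cast,
      hχ, hψ] at h
    exact_mod_cast h
  set U := ∑ θ : Cfsg.IrrCharacter G, if Cfsg.charDegree (θ : G → ℂ) = a then c θ else 0 with hU
  set V := ∑ θ : Cfsg.IrrCharacter G, if Cfsg.charDegree (θ : G → ℂ) = b then c θ else 0 with hV
  have hUV : a * b = U * a + V * b := by
    rw [hsum, hU, hV, Finset.sum_mul, Finset.sum_mul, ← Finset.sum_add_distrib]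
    refine Finset.sum_congr rfl fun θ _ => ?_
    rcases hD _ (deg_mem θ) with h | h | h
    · rw [hlin θ h]; simp
    · rw [if_pos h, if_neg (h ▸ hne), h]; simp
    · rw [if_neg (h ▸ hne.symm), if_pos h, h]; simp
  have hVa : a ∣ V := by
    refine hab.dvd_of_dvd_mul_right ?_
    exact (Nat.dvd_add_right (dvd_mul_left a U)).1 (hUV ▸ dvd_mul_right a b)
  have hVpos : 0 < V := by
    refine Nat.lt_of_lt_of_le (Nat.pos_of_ne_zero fun h0 => hη (by rw [hcc, h0, Nat.cast_zero]))
      ?_ (m := c η)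
    rw [hV]
    refine le_trans (b := if Cfsg.charDegree (η : G → ℂ) = b then c η else 0)
      (le_of_eq (if_pos hηb).symm) ?_
    exact Finset.single_le_sum (f := fun θ : Cfsg.IrrCharacter G =>
      if Cfsg.charDegree (θ : G → ℂ) = b then c θ else 0) (fun _ _ => Nat.zero_le _)
      (Finset.mem_univ η)
  have hVle : a ≤ V := Nat.le_of_dvd hVpos hVa
  have hU0 : U = 0 := by nlinarith
  rcases hD _ (deg_mem η') with h | h | h
  · exact absurd (by rw [hcc, hlin η' h, Nat.cast_zero]) hη'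
  · exfalso
    rw [hU, Finset.sum_eq_zero_iff] at hU0
    have := hU0 η' (Finset.mem_univ _)
    rw [if_pos h] at this
    exact hη' (by rw [hcc, this, Nat.cast_zero])
  · exact h

open _root_.Classical in
/-- The linear characters sum to zero off the derived subgroup. -/
theorem sum_linear_eq [Fintype (G →* ℂˣ)] (x : G) :
    ∑ l : G →* ℂˣ, (l x : ℂ) = if x ∈ commutator G then (Nat.card (G →* ℂˣ) : ℂ) else 0 := by
  split_ifs with hx
  · rw [Finset.sum_congr rfl fun l _ => by
      rw [show l x = 1 from MonoidHom.mem_ker.1 (Abelianization.commutator_subset_ker l hx),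
        Units.val_one]]
    simp [Nat.card_eq_fintype_card]
  · obtain ⟨μ, hμ⟩ : ∃ μ : G →* ℂˣ, μ x ≠ 1 := by
      by_contra! h
      exact hx (mem_commutator_of_linear x h)
    have h1 : ∑ l : G →* ℂˣ, (l x : ℂ) = (μ x : ℂ) * ∑ l : G →* ℂˣ, (l x : ℂ) := by
      rw [Finset.mul_sum]
      exact (Fintype.sum_equiv (Equiv.mulLeft μ) _ _ fun l => by simp).symm
    have h2 : ((μ x : ℂ) - 1) * ∑ l : G →* ℂˣ, (l x : ℂ) = 0 := by
      rw [sub_mul, one_mul, ← h1, sub_self]
    exact (mul_eq_zero.1 h2).resolve_left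
      (sub_ne_zero.2 fun e => hμ (Units.ext e))

/-- One pair with only degree `b` below it is impossible. -/
theorem no_pair {a b : ℕ} (ha : 2 ≤ a) (hb : 2 ≤ b) (hab : a.Coprime b)
    (hD : ∀ d ∈ Cfsg.charDegrees G, d = 1 ∨ d = a ∨ d = b) (χ ψ φ : Cfsg.IrrCharacter G)
    (hχ : Cfsg.charDegree (χ : G → ℂ) = a) (hψ : Cfsg.charDegree (ψ : G → ℂ) = b)
    (hφ : Cfsg.classInner ((χ : G → ℂ) * (ψ : G → ℂ)) (φ : G → ℂ) ≠ 0)
    (hφb : Cfsg.charDegree (φ : G → ℂ) = b)
    (hZ : ∀ z ∈ commutator G, (χ : G → ℂ) z * conj ((χ : G → ℂ) z) = (a : ℂ) * a → z = 1) :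
    False := by
  classical
  haveI : Finite (G →* ℂˣ) := Nat.finite_of_card_ne_zero (by
    rw [card_linear_hom]; exact Subgroup.index_ne_zero_of_finite)
  haveI := Fintype.ofFinite (G →* ℂˣ)
  haveI := Fintype.ofFinite (Cfsg.IrrCharacter G)
  set χb : Cfsg.IrrCharacter G := ⟨_, isIrrCharacter_conj χ.2⟩ with hχb
  have hχbd : Cfsg.charDegree (χb : G → ℂ) = a := by
    rw [← hχ, hχb]
    simp [Cfsg.charDegree]
  set F : G → ℂ := (χb : G → ℂ) * (χ : G → ℂ) with hF
  let S : Cfsg.IrrCharacter G → Prop := fun θ => Cfsg.charDegree (θ : G → ℂ) = b ∧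
    ∃ η : Cfsg.IrrCharacter G, Cfsg.charDegree (η : G → ℂ) = b ∧
      Cfsg.classInner ((χ : G → ℂ) * (θ : G → ℂ)) (η : G → ℂ) ≠ 0
  have hstep : ∀ θ η : Cfsg.IrrCharacter G, S θ →
      Cfsg.classInner (F * (θ : G → ℂ)) (η : G → ℂ) ≠ 0 → S η := by
    rintro θ η ⟨hθ, η₀, hη₀, hne₀⟩ h
    rw [hF, mul_assoc] at h
    have hcc : Cfsg.IsCharacter G ((χ : G → ℂ) * (θ : G → ℂ)) :=
      isCharacter_mul (irr_isCharacter χ) (irr_isCharacter θ)
    obtain ⟨ρ, hρ1, hρ2⟩ := exists_constituent_mid (χb : G → ℂ) (char_isClassFunction hcc) h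
    have hρb := dichotomy ha hb hab hD hχ hθ hne₀ hρ1 hη₀
    have hρθ : Cfsg.classInner ((χb : G → ℂ) * (ρ : G → ℂ)) (θ : G → ℂ) ≠ 0 := by
      rw [classInner_mul_left, classInner_conj_symm ((fun g => conj ((χb : G → ℂ) g)) * (θ : G → ℂ))]
      refine fun e => hρ1 ?_
      rw [map_eq_zero] at e
      simpa [hχb] using e
    have hηb := dichotomy ha hb hab hD hχbd hρb hρθ hρ2 hθ
    refine ⟨hηb, ρ, hρb, ?_⟩
    rw [classInner_mul_left] at hρ2
    rw [classInner_conj_symm] at hρ2
    refine fun e => hρ2 ?_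
    rw [map_eq_zero]
    simpa [hχb] using e
  have hFc : Cfsg.IsCharacter G F := isCharacter_mul (irr_isCharacter χb) (irr_isCharacter χ)
  have hpow : ∀ k : ℕ, Cfsg.IsClassFunction G (F ^ k * (ψ : G → ℂ)) ∧
      ∀ η : Cfsg.IrrCharacter G, Cfsg.classInner (F ^ k * (ψ : G → ℂ)) (η : G → ℂ) ≠ 0 → S η := by
    intro k
    induction k with
    | zero =>
      rw [pow_zero, one_mul]
      refine ⟨irr_isClassFunction ψ, fun η hη => ?_⟩
      have he : η = ψ := by
        by_contra hne
        exact hη (classInner_isIrr_ne ψ.2 η.2 fun e => hne (Subtype.ext e.symm))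
      subst he
      exact ⟨hψ, φ, hφb, hφ⟩
    | succ k ih =>
      rw [pow_succ', mul_assoc]
      refine ⟨fun x y => ?_, fun η hη => ?_⟩
      · simp only [Pi.mul_apply]
        rw [← Pi.mul_apply (F ^ k) (ψ : G → ℂ), ← Pi.mul_apply (F ^ k) (ψ : G → ℂ),
          char_isClassFunction hFc x y, ih.1 x y]
      · obtain ⟨θ, h1, h2⟩ := exists_constituent_mid F ih.1 hη
        exact hstep θ η (ih.2 θ h1) h2
  have hzero : ∀ (k : ℕ) (l : G →* ℂˣ), ∑ g, F g ^ k * ((ψ : G → ℂ) g * conj (l g : ℂ)) = 0 := by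
    intro k l
    by_contra hne
    have h := (hpow k).2 ⟨_, isIrrCharacter_linear l⟩ ?_
    · have h1 := h.1
      rw [charDegree_eq (n := 1) (isCharacter_linear l) (by simp)] at h1
      omega
    · rw [classInner_def]
      simp only [Pi.mul_apply, Pi.pow_apply, mul_assoc]
      exact mul_ne_zero (inv_ne_zero natCard_ne_zero) hne
  have hprod : ∀ (s : Finset ℂ) (k : ℕ) (l : G →* ℂˣ),
      ∑ g, (∏ v ∈ s, (F g - v)) * (F g ^ k * ((ψ : G → ℂ) g * conj (l g : ℂ))) = 0 := by
    intro s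
    induction s using Finset.induction with
    | empty => simpa using hzero
    | insert v s hv ih =>
      intro k l
      simp only [Finset.prod_insert hv]
      rw [Finset.sum_congr rfl (g := fun g =>
        (∏ w ∈ s, (F g - w)) * (F g ^ (k + 1) * ((ψ : G → ℂ) g * conj (l g : ℂ))) -
          v * ((∏ w ∈ s, (F g - w)) * (F g ^ k * ((ψ : G → ℂ) g * conj (l g : ℂ)))))
        fun g _ => by ring]
      rw [Finset.sum_sub_distrib, ← Finset.mul_sum, ih, ih, mul_zero, sub_zero]
  set s := (Finset.univ.image F).erase ((a : ℂ) * a) with hs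
  have hF1 : F 1 = (a : ℂ) * a := by
    rw [hF, Pi.mul_apply, ← charDegree_cast, ← charDegree_cast, hχ, hχbd]
  have hkey : ∀ l : G →* ℂˣ, ∑ g, (∏ v ∈ s, (F g - v)) * ((ψ : G → ℂ) g * conj (l g : ℂ)) = 0 :=
    fun l => by simpa using hprod s 0 l
  have htot : ∑ l : G →* ℂˣ, ∑ g, (∏ v ∈ s, (F g - v)) * ((ψ : G → ℂ) g * conj (l g : ℂ)) = 0 :=
    Finset.sum_eq_zero fun l _ => hkey l
  rw [Finset.sum_comm, Finset.sum_eq_single (1 : G)] at htot
  · simp only [map_one, Units.val_one, Finset.sum_const, Finset.card_univ, nsmul_eq_mul,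
      mul_one] at htot
    have h1 : (∏ v ∈ s, (F 1 - v)) ≠ 0 := Finset.prod_ne_zero_iff.2 fun v hv =>
      sub_ne_zero.2 fun e => (Finset.mem_erase.1 hv).1 (e.symm.trans hF1)
    exact mul_ne_zero (Nat.cast_ne_zero.2 Fintype.card_ne_zero)
      (mul_ne_zero h1 (irr_one_ne_zero ψ.2)) htot
  · intro g _ hg
    rw [← Finset.mul_sum, ← Finset.mul_sum]
    by_cases hgD : g ∈ commutator G
    · rw [Finset.prod_eq_zero (i := F g) (Finset.mem_erase.2 ⟨fun e => hg (hZ g hgD (by
        rw [← e, hF, Pi.mul_apply, mul_comm, hχb])), Finset.mem_image.2 ⟨g, Finset.mem_univ _, rfl⟩⟩)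
        (sub_self _), zero_mul]
    · rw [← map_sum, sum_linear_eq, if_neg hgD, map_zero, mul_zero, mul_zero]
  · exact fun h => absurd (Finset.mem_univ _) h

/-- Full absolute value on a perfect normal subgroup forces a trivial restriction. -/
theorem trivial_of_abs (L : Subgroup G) [Fintype L] (hL : ⁅L, L⁆ = L) (χ : Cfsg.IrrCharacter G)
    {a : ℕ} (hχ : Cfsg.charDegree (χ : G → ℂ) = a)
    (h : ∀ z ∈ L, (χ : G → ℂ) z * conj ((χ : G → ℂ) z) = (a : ℂ) * a) :
    ∀ z ∈ L, (χ : G → ℂ) z = (χ : G → ℂ) 1 := by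
  classical
  haveI := Fintype.ofFinite (Cfsg.IrrCharacter L)
  have hres := isCharacter_restrict L (irr_isCharacter χ)
  choose c hc using fun θ : Cfsg.IrrCharacter L => classInner_char_nat hres (irr_isCharacter θ)
  have hexp := classFun_eq_sum (char_isClassFunction hres)
  have hdeg : a = ∑ θ, c θ * Cfsg.charDegree (θ : L → ℂ) := by
    have h1 := congrFun hexp 1
    simp only [Finset.sum_apply, Pi.smul_apply, smul_eq_mul, hc, ← charDegree_cast] at h1
    rw [show ((1 : L) : G) = 1 from rfl, ← charDegree_cast, hχ] at h1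
    exact_mod_cast h1
  have hsq : a * a = ∑ θ, c θ * c θ := by
    have h1 : Cfsg.classInner (fun x : L => (χ : G → ℂ) x) (fun x : L => (χ : G → ℂ) x) =
        (a : ℂ) * a := by
      rw [classInner_def, Finset.sum_congr rfl fun (x : L) _ => h x x.2, Finset.sum_const,
        Finset.card_univ, nsmul_eq_mul, ← Nat.card_eq_fintype_card, inv_mul_cancel_left₀
          natCard_ne_zero]
    rw [classInner_eq_sum _ (char_isClassFunction hres), Finset.sum_congr rfl fun θ _ => by
      rw [classInner_conj_symm (fun x : L => (χ : G → ℂ) x) (θ : L → ℂ), hc, Complex.conj_natCast]]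
      at h1
    exact_mod_cast h1.symm
  have hlin : ∀ θ, c θ ≠ 0 → Cfsg.charDegree (θ : L → ℂ) = 1 := by
    intro θ hθ
    by_contra hne
    have h2 : ∑ η, c η < a := by
      rw [hdeg]
      refine Finset.sum_lt_sum (fun η _ => Nat.le_mul_of_pos_right _ (charDegree_pos η))
        ⟨θ, Finset.mem_univ θ, ?_⟩
      have := charDegree_pos θ
      exact lt_mul_of_one_lt_right (Nat.pos_of_ne_zero hθ) (by omega)
    have h3 : ∑ η, c η * c η ≤ (∑ η, c η) * ∑ η, c η := by
      rw [Finset.sum_mul]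
      exact Finset.sum_le_sum fun η _ => Nat.mul_le_mul_left _
        (Finset.single_le_sum (fun _ _ => Nat.zero_le _) (Finset.mem_univ η))
    exact absurd hsq (by
      have := Nat.mul_self_lt_mul_self h2
      omega)
  intro z hz
  have hzD : (⟨z, hz⟩ : L) ∈ commutator L := by
    have e : (commutator L).map L.subtype = L := by
      rw [commutator_def, Subgroup.map_commutator, ← MonoidHom.range_eq_map,
        Subgroup.range_subtype, hL]
    have hz' : z ∈ (commutator L).map L.subtype := e.symm ▸ hz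
    obtain ⟨y, hy, hyz⟩ := hz'
    rwa [show (⟨z, hz⟩ : L) = y from Subtype.ext hyz.symm]
  have h1 := congrFun hexp ⟨z, hz⟩
  have h2 := congrFun hexp 1
  simp only [Finset.sum_apply, Pi.smul_apply, smul_eq_mul, OneMemClass.coe_one] at h1 h2
  rw [h1, h2]
  refine Finset.sum_congr rfl fun θ _ => ?_
  by_cases h0 : c θ = 0
  · rw [hc, h0, Nat.cast_zero, zero_mul, zero_mul]
  · rw [commutator_le_linear_ker (irr_isCharacter θ)
      (by rw [← charDegree_cast, hlin θ h0, Nat.cast_one]) hzD]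

/-- A minimal perfect derived subgroup excludes two coprime degrees. -/
theorem minimal_case {a b : ℕ} (ha : 2 ≤ a) (hb : 2 ≤ b) (hab : a.Coprime b)
    (hD : ∀ d ∈ Cfsg.charDegrees G, d = 1 ∨ d = a ∨ d = b) (ha' : a ∈ Cfsg.charDegrees G)
    (hb' : b ∈ Cfsg.charDegrees G) (hperf : ⁅commutator G, commutator G⁆ = commutator G)
    (hmin : ∀ M : Subgroup G, M.Normal → M ≤ commutator G → M ≠ commutator G → M = ⊥) : False := by
  classical
  haveI := Fintype.ofFinite (commutator G)
  obtain ⟨χ, hχ⟩ := ha'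
  obtain ⟨ψ, hψ⟩ := hb'
  have hZ : ∀ (θ : Cfsg.IrrCharacter G) (c : ℕ), 2 ≤ c → Cfsg.charDegree (θ : G → ℂ) = c →
      ∀ z ∈ commutator G, (θ : G → ℂ) z * conj ((θ : G → ℂ) z) = (c : ℂ) * c → z = 1 := by
    intro θ c hc hθ z hz he
    have hFc : Cfsg.IsCharacter G ((θ : G → ℂ) * fun g => conj ((θ : G → ℂ) g)) :=
      isCharacter_mul (irr_isCharacter θ) (isCharacter_conj (irr_isCharacter θ))
    have hF1 : ((θ : G → ℂ) * fun g => conj ((θ : G → ℂ) g)) 1 = (c : ℂ) * c := by
      rw [Pi.mul_apply, ← charDegree_cast, hθ, Complex.conj_natCast]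
    set Z := charKernel _ hFc with hZdef
    haveI := charKernel_normal hFc
    by_cases hle : Z ⊓ commutator G = commutator G
    · exfalso
      have h1 := trivial_of_abs (commutator G) hperf θ hθ fun w hw => by
        have hwZ : w ∈ Z := (inf_eq_right.1 hle) hw
        rw [hZdef, mem_charKernel, hF1] at hwZ
        exact hwZ
      have h2 := PrimeDegrees.linear_of_commutator_le θ.2 h1
      rw [← charDegree_cast, hθ] at h2
      have : c = 1 := by exact_mod_cast h2
      omega
    · have hbot := hmin (Z ⊓ commutator G) inferInstance inf_le_right hle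
      rw [← Subgroup.mem_bot, ← hbot]
      refine ⟨?_, hz⟩
      show ((θ : G → ℂ) * fun g => conj ((θ : G → ℂ) g)) z = _
      rw [hF1]
      exact he
  haveI := Fintype.ofFinite (Cfsg.IrrCharacter G)
  obtain ⟨φ, hφ⟩ : ∃ φ : Cfsg.IrrCharacter G,
      Cfsg.classInner ((χ : G → ℂ) * (ψ : G → ℂ)) (φ : G → ℂ) ≠ 0 := by
    by_contra! h
    have hc := isCharacter_mul (irr_isCharacter χ) (irr_isCharacter ψ)
    have h1 := congrFun (classFun_eq_sum (char_isClassFunction hc)) 1
    simp only [h, zero_smul, Finset.sum_const_zero, Pi.zero_apply, Pi.mul_apply] at h1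
    exact mul_ne_zero (irr_one_ne_zero χ.2) (irr_one_ne_zero ψ.2) h1
  rcases hD _ (deg_mem φ) with h | h | h
  · refine hφ ?_
    have h1 : (φ : G → ℂ) 1 = 1 := by rw [← charDegree_cast, h, Nat.cast_one]
    rw [classInner_mul_left]
    refine classInner_isIrr_ne ψ.2
      (Basics.isIrr_mul_linear (isIrrCharacter_conj χ.2) (irr_isCharacter φ) h1) fun e => ?_
    have e1 := congrFun e 1
    rw [Pi.mul_apply, h1, mul_one, ← charDegree_cast, ← charDegree_cast, hψ, hχ,
      Complex.conj_natCast, Nat.cast_inj] at e1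
    subst e1
    rw [Nat.coprime_self] at hab
    omega
  · rw [mul_comm] at hφ
    exact no_pair hb ha hab.symm (fun d hd => (hD d hd).imp_right Or.symm) ψ χ φ hψ hχ hφ h
      (hZ ψ b hb hψ)
  · exact no_pair ha hb hab hD χ ψ φ hχ hψ hφ h (hZ χ a ha hχ)

/-- No group with perfect derived subgroup has two coprime nonlinear degrees. -/
theorem perfect_case {H : Type u} [Group H] [Finite H] {a b : ℕ} (hab : a.Coprime b)
    (hD : ∀ d ∈ Cfsg.charDegrees H, d = 1 ∨ d = a ∨ d = b)
    (hperf : ⁅commutator H, commutator H⁆ = commutator H) : commutator H = ⊥ := by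
  classical
  by_contra hne
  obtain ⟨R, ⟨hRn, hRle, hRne⟩, hmax⟩ := (Set.toFinite
    {R : Subgroup H | R.Normal ∧ R ≤ commutator H ∧ R ≠ commutator H}).exists_maximal
      ⟨⊥, inferInstance, bot_le, Ne.symm hne⟩
  haveI := hRn
  set π := QuotientGroup.mk' R with hπ
  have hmap : commutator (H ⧸ R) = (commutator H).map π := by
    rw [commutator_def, commutator_def, Subgroup.map_commutator,
      Subgroup.map_top_of_surjective _ (QuotientGroup.mk'_surjective R)]
  have hperf' : ⁅commutator (H ⧸ R), commutator (H ⧸ R)⁆ = commutator (H ⧸ R) := by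
    rw [hmap, ← Subgroup.map_commutator, hperf]
  have hne' : commutator (H ⧸ R) ≠ ⊥ := by
    rw [hmap, Ne, Subgroup.map_eq_bot_iff, QuotientGroup.ker_mk']
    exact fun h => hRne (le_antisymm hRle h)
  have hmin : ∀ M : Subgroup (H ⧸ R), M.Normal → M ≤ commutator (H ⧸ R) →
      M ≠ commutator (H ⧸ R) → M = ⊥ := by
    intro M hM hle hMne
    have hRM : R ≤ M.comap π := fun x hx => by
      show π x ∈ M
      rw [show π x = 1 from (QuotientGroup.eq_one_iff x).2 hx]
      exact one_mem _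
    have hcl : M.comap π ≤ commutator H := by
      refine (Subgroup.comap_mono hle).trans (le_of_eq ?_)
      rw [hmap, Subgroup.comap_map_eq, QuotientGroup.ker_mk', sup_eq_left.2 hRle]
    have hcne : M.comap π ≠ commutator H := fun e => hMne (by
      rw [hmap, ← e, Subgroup.map_comap_eq_self_of_surjective (QuotientGroup.mk'_surjective R)])
    have h1 := hmax ⟨hM.comap π, hcl, hcne⟩ hRM
    rw [← Subgroup.map_comap_eq_self_of_surjective (QuotientGroup.mk'_surjective R) M,
      Subgroup.map_eq_bot_iff, QuotientGroup.ker_mk']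
    exact h1
  have hD' : ∀ d ∈ Cfsg.charDegrees (H ⧸ R), d = 1 ∨ d = a ∨ d = b :=
    fun d hd => hD d (mem_of_quotient R hd)
  by_cases htwo : ∀ x ∈ Cfsg.charDegrees (H ⧸ R), ∀ y ∈ Cfsg.charDegrees (H ⧸ R),
      x ≠ 1 → y ≠ 1 → x = y
  · exact hne' (hperf' ▸ derived_two htwo)
  push Not at htwo
  obtain ⟨x, hx, y, hy, hx1, hy1, hxy⟩ := htwo
  haveI := Fintype.ofFinite (H ⧸ R)
  have hxp := pos_of_mem hx
  have hyp := pos_of_mem hy
  have hD'' : ∀ d ∈ Cfsg.charDegrees (H ⧸ R), d = 1 ∨ d = x ∨ d = y := by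
    intro d hd
    have h1 := (hD' x hx).resolve_left hx1
    have h2 := (hD' y hy).resolve_left hy1
    rcases hD' d hd with h | h | h <;> omega
  have hxy' : x.Coprime y := by
    rcases (hD' x hx).resolve_left hx1 with rfl | rfl <;>
      rcases (hD' y hy).resolve_left hy1 with rfl | rfl
    · exact absurd rfl hxy
    · exact hab
    · exact hab.symm
    · exact absurd rfl hxy
  exact minimal_case (by omega) (by omega) hxy' hD'' hx hy hperf' hmin

end Cfsg.Agent.BlocksChars.ThreeDegrees
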