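import Cfsg.Agent.BlocksChars.ThreeDegrees.Basic
import Cfsg.Agent.BlocksChars.BoundedDegree.Basic

/-!
# A free twist of a character of a Frobenius kernel
-/

set_option autoImplicit false
set_option linter.style.haveILetI false
set_option linter.unusedSectionVars false

namespace Cfsg.Agent.BlocksChars.ThreeDegrees

open Cfsg.Agent.Characters Cfsg.Agent.CharTheory Cfsg.Agent.BlocksChars.Degrees
open scoped commutatorElement ComplexConjugate

universe u

variable {G : Type u} [Group G] [Finite G]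

/-- Degree prime to the index: the restriction stays irreducible. -/
theorem restrict_irr_of_coprime (K : Subgroup G) [K.Normal] [Fintype K] (χ : Cfsg.IrrCharacter G)
    (hcop : (Cfsg.charDegree (χ : G → ℂ)).Coprime K.index) :
    Cfsg.IsIrrCharacter K (fun x : K => (χ : G → ℂ) x) := by
  haveI := Fintype.ofFinite G
  obtain ⟨θ, hθ, hover⟩ := IsaacsOdd.exists_constituent K χ.2
  obtain ⟨h1, h2⟩ := Cfsg.Agent.S0887.result K (χ : G → ℂ) χ.2 θ hθ hover _ _
    (charDegree_cast χ).symm (charDegree_cast ⟨θ, hθ⟩).symm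
  obtain ⟨m, hm⟩ := h1
  have hpos : 0 < Cfsg.charDegree θ := charDegree_pos (⟨θ, hθ⟩ : Cfsg.IrrCharacter K)
  rw [hm, Nat.mul_div_cancel_left _ hpos] at h2
  have hm1 : m = 1 := Nat.eq_one_of_dvd_coprimes hcop (hm ▸ dvd_mul_left m _) h2
  rw [hm1, mul_one] at hm
  rw [BoundedDegree.restrict_eq_of_degree K χ.2 hθ hover (charDegree_cast χ).symm
    (charDegree_cast ⟨θ, hθ⟩).symm hm.le]
  exact hθ

variable (N : Subgroup G) [hN : N.Normal]

/-- If outside elements fix no nontrivial linear character of `N / K`, some twist has stabiliser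
`N`. -/
theorem index_mul_mem (hGN : commutator G ≤ N) (K : Subgroup N) [K.Normal] [Fintype K]
    (μ₀ : N →* ℂˣ) (hμ₀ : ∀ k ∈ K, μ₀ k = 1) (hμ₀1 : μ₀ ≠ 1)
    (hKinv : ∀ (g : G) (k : N), k ∈ K → MulAut.conjNormal g k ∈ K)
    (hfree : ∀ μ : N →* ℂˣ, (∀ k ∈ K, μ k = 1) → ∀ t : G, t ∉ N →
      (∀ v : N, μ (MulAut.conjNormal t v) = μ v) → μ = 1)
    (ψ : Cfsg.IrrCharacter N) (hψK : Cfsg.IsIrrCharacter K (fun x : K => (ψ : N → ℂ) x)) :
    N.index * Cfsg.charDegree (ψ : N → ℂ) ∈ Cfsg.charDegrees G := by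
  classical
  haveI := Fintype.ofFinite N
  haveI := Fintype.ofFinite G
  let tw : (N →* ℂˣ) → N → ℂ := fun μ n => (μ n : ℂ) * (ψ : N → ℂ) n
  have htw : ∀ μ, Cfsg.IsIrrCharacter N (tw μ) := fun μ => isIrrCharacter_mul_linear ψ.2 μ
  have hcl : ∀ μ, Cfsg.IsClassFunction N (tw μ) := fun μ =>
    char_isClassFunction (isCharacter_of_isIrr (htw μ))
  have hinner : ∀ μ, ∀ x ∈ N, Clifford.conjBy N x (tw μ) = tw μ := fun μ x hx => funext fun v => by
    rw [Clifford.conjBy_apply]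
    exact hcl μ v ⟨x, hx⟩
  -- cancellation
  have hcancel : ∀ μ μ' : N →* ℂˣ, (∀ k ∈ K, μ k = 1) → (∀ k ∈ K, μ' k = 1) →
      tw μ = tw μ' → μ = μ' := by
    intro μ μ' hμ hμ' he
    refine MonoidHom.ext fun g => Units.ext ?_
    have h1 : ∀ f : N →* ℂˣ, (∀ k ∈ K, f k = 1) →
        Average.avg K (fun n => tw f n * conj ((ψ : N → ℂ) n)) g = (f g : ℂ) := by
      intro f hf
      have h2 := congrFun (Average.quotChar_self K ψ.2 hψK) g
      rw [Average.quotChar_apply] at h2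
      simp only [Average.avg, tw]
      rw [Finset.sum_congr rfl (g := fun k : K => (f g : ℂ) * ((ψ : N → ℂ) ((k : N) * g) *
        conj ((ψ : N → ℂ) ((k : N) * g)))) fun k _ => by
          rw [map_mul, hf k k.2, one_mul]; ring,
        ← Finset.mul_sum, mul_left_comm, h2, mul_one]
    rw [← h1 μ hμ, ← h1 μ' hμ', he]
  have hconj : ∀ (g : G) (μ : N →* ℂˣ), Clifford.conjBy N g (tw μ) =
      fun n => (μ (MulAut.conjNormal g n) : ℂ) * Clifford.conjBy N g (ψ : N → ℂ) n := by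
    intro g μ
    funext n
    simp only [Clifford.conjBy_apply, tw]
    rw [show MulAut.conjNormal g n = (⟨g * n * g⁻¹, hN.conj_mem n n.2 g⟩ : N) from
      Subtype.ext (by simp [MulAut.conjNormal_apply])]
  -- a twist with stabiliser `N`
  obtain ⟨μ, hμ⟩ : ∃ μ : N →* ℂˣ, ∀ g : G, Clifford.conjBy N g (tw μ) = tw μ → g ∈ N := by
    by_contra! hall
    obtain ⟨t₀, ht₀, ht₀N⟩ := hall 1
    obtain ⟨t₂, ht₂, ht₂N⟩ := hall μ₀
    have hψt : Clifford.conjBy N t₀ (ψ : N → ℂ) = (ψ : N → ℂ) := by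
      rw [hconj] at ht₀
      simpa [tw] using ht₀
    set μ₁ : N →* ℂˣ := μ₀.comp (MulAut.conjNormal t₀ : N ≃* N).toMonoidHom with hμ₁
    have hμ₁K : ∀ k ∈ K, μ₁ k = 1 := fun k hk => hμ₀ _ (hKinv t₀ k hk)
    have h1 : Clifford.conjBy N t₀ (tw μ₀) = tw μ₁ := by
      rw [hconj, hψt]
      rfl
    have hn : ⁅t₀, t₂⁆ ∈ N :=
      hGN (Subgroup.commutator_mem_commutator (Subgroup.mem_top _) (Subgroup.mem_top _))
    have h2 : Clifford.conjBy N t₂ (tw μ₁) = tw μ₁ := by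
      have e : t₀ * t₂ = ⁅t₀, t₂⁆ * t₂ * t₀ := by rw [commutatorElement_def]; group
      rw [← h1, Clifford.conjBy_conjBy, e, ← Clifford.conjBy_conjBy N t₀,
        ← Clifford.conjBy_conjBy N t₂, hinner μ₀ _ hn, ht₂]
    set ν := μ₁ * μ₀⁻¹ with hν
    have hνK : ∀ k ∈ K, ν k = 1 := fun k hk => by
      rw [hν, MonoidHom.mul_apply, MonoidHom.inv_apply, hμ₁K k hk, hμ₀ k hk, inv_one, mul_one]
    have hsplit : ∀ v, μ₁ v = ν v * μ₀ v := fun v => by
      rw [hν, MonoidHom.mul_apply, MonoidHom.inv_apply, inv_mul_cancel_right]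
    set ν' : N →* ℂˣ := ν.comp (MulAut.conjNormal t₂ : N ≃* N).toMonoidHom with hν'
    have hν'K : ∀ k ∈ K, ν' k = 1 := fun k hk => hνK _ (hKinv t₂ k hk)
    have h3 : tw (ν' * μ₀) = tw (ν * μ₀) := by
      funext v
      have e1 := congrFun h2 v
      rw [hconj] at e1
      have e2 := congrFun ht₂ v
      rw [hconj] at e2
      simp only [tw] at e1 e2 ⊢
      simp only [MonoidHom.mul_apply, Units.val_mul, ← hsplit v] at *
      rw [hsplit (MulAut.conjNormal t₂ v), Units.val_mul, mul_assoc, e2, ← mul_assoc] at e1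
      exact e1
    have hmK : ∀ f : N →* ℂˣ, (∀ k ∈ K, f k = 1) → ∀ k ∈ K, (f * μ₀) k = 1 := fun f hf k hk => by
      rw [MonoidHom.mul_apply, hf k hk, hμ₀ k hk, mul_one]
    have h4 : ν' = ν := mul_right_cancel (hcancel _ _ (hmK _ hν'K) (hmK _ hνK) h3)
    have h5 : ν = 1 := hfree ν hνK t₂ ht₂N fun v => DFunLike.congr_fun h4 v
    refine hμ₀1 (hfree μ₀ hμ₀ t₀ ht₀N fun v => ?_)
    have := hsplit v
    rw [h5, MonoidHom.one_apply, one_mul] at this
    exact this
  have hdeg : Cfsg.charDegree (tw μ) = Cfsg.charDegree (ψ : N → ℂ) :=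
    charDegree_eq (isCharacter_of_isIrr (htw μ)) (by simp [tw, charDegree_cast ψ])
  have h := Palfy.degree_mem N (htw μ) N (fun g => ⟨fun hg => hinner μ g hg, hμ g⟩) le_rfl (tw μ)
    (htw μ) (fun n => rfl) ⟨_, isIrrCharacter_linear 1⟩
  rwa [Palfy.charDegree_linear, mul_one, hdeg] at h

end Cfsg.Agent.BlocksChars.ThreeDegrees
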