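import Cfsg.Agent.BlocksChars.ThreeDegrees.Nilpotent
import Cfsg.Agent.BlocksChars.ThreeDegrees.Perfect
import Cfsg.Agent.BlocksChars.ThreeDegrees.Twist
import Cfsg.Agent.BlocksChars.BoundedDegree.Quotient

/-!
# Three degrees: derived length at most three
-/

set_option autoImplicit false
set_option linter.style.haveILetI false
set_option linter.unusedSectionVars false

namespace Cfsg.Agent.BlocksChars.ThreeDegrees

open Cfsg.Agent.Characters Cfsg.Agent.CharTheory Cfsg.Agent.BlocksChars.Degrees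
open scoped commutatorElement ComplexConjugate

universe u

variable {G : Type u} [Group G] [Finite G]

theorem coprime_of_primes {a b : ℕ} (h : ∀ r : ℕ, r.Prime → r ∣ a → r ∣ b → False) : a.Coprime b :=
  Nat.coprime_of_dvd fun r hr h1 h2 => h r hr h1 h2

theorem dvd_card_of_degree (A : Subgroup G) {d : ℕ} (hd : d ∈ Cfsg.charDegrees A) :
    d ∣ Nat.card A := by
  haveI := Fintype.ofFinite A
  obtain ⟨χ, rfl⟩ := hd
  exact charDegree_dvd_card χ

/-- The part of the group prime to the common divisors. -/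
theorem exists_coprime_part {g : ℕ} (hg : g ≠ 0)
    (h : ∀ r : ℕ, r.Prime → r ∣ g → ∃ H : Subgroup G, H.Normal ∧ (Nat.card H).Coprime r ∧
      (∃ k, H.index = r ^ k) ∧ commutator G ≤ H) :
    ∃ A : Subgroup G, A.Normal ∧ commutator G ≤ A ∧ (Nat.card A).Coprime g ∧
      ∀ s : ℕ, s.Prime → s ∣ A.index → s ∣ g := by
  classical
  set A := Subgroup.closure {x : G | (orderOf x).Coprime g} with hA
  have hGA : commutator G ≤ A := fun x hx => Subgroup.subset_closure (coprime_of_primes
    fun r hr h1 h2 => by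
      obtain ⟨H, -, hcop, -, hle⟩ := h r hr h2
      refine hr.not_dvd_one (hcop.gcd_eq_one ▸ Nat.dvd_gcd (h1.trans ?_) dvd_rfl)
      rw [← Subgroup.orderOf_mk x (hle hx)]
      exact orderOf_dvd_natCard _)
  refine ⟨A, Subgroup.Normal.of_commutator_le G hGA, hGA, coprime_of_primes fun r hr h1 h2 => ?_,
    fun s hs hsA => ?_⟩
  · obtain ⟨H, hHn, hcop, ⟨k, hk⟩, -⟩ := h r hr h2
    haveI := hHn
    have hle : A ≤ H := by
      rw [hA, Subgroup.closure_le]
      intro x hx
      rw [SetLike.mem_coe, ← QuotientGroup.eq_one_iff, ← orderOf_eq_one_iff]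
      have h3 : orderOf (x : G ⧸ H) ∣ orderOf x := orderOf_map_dvd (QuotientGroup.mk' H) x
      have h4 : orderOf (x : G ⧸ H) ∣ r ^ k := hk ▸ H.index_eq_card ▸ orderOf_dvd_natCard _
      exact Nat.eq_one_of_dvd_coprimes
        (Nat.Coprime.pow_right k (Nat.Coprime.coprime_dvd_right h2 hx)) h3 h4
    exact hr.not_dvd_one (hcop.gcd_eq_one ▸
      Nat.dvd_gcd (h1.trans (Subgroup.card_dvd_of_le hle)) dvd_rfl)
  · by_contra hsg
    haveI := Fact.mk hs
    let P : Sylow s G := default
    refine P.not_dvd_index (hsA.trans (Subgroup.index_dvd_of_le fun x hx => ?_))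
    obtain ⟨j, hj⟩ := IsPGroup.iff_orderOf.1 P.2 ⟨x, hx⟩
    refine Subgroup.subset_closure ?_
    show (orderOf x).Coprime g
    rw [← Subgroup.orderOf_mk x hx, hj]
    exact (hs.coprime_iff_not_dvd.2 hsg).pow_left j

/-- The perfect case. -/
theorem perfect_derived {f n : ℕ} (hD : ∀ d ∈ Cfsg.charDegrees G, d = 1 ∨ d = f ∨ d = n)
    {A : Subgroup G} [A.Normal] (hGA : commutator G ≤ A)
    (hcop : (Nat.card A).Coprime (Nat.gcd f n))
    (hidx : ∀ s : ℕ, s.Prime → s ∣ A.index → s ∣ Nat.gcd f n)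
    (hperf : ⁅commutator G, commutator G⁆ = commutator G) : commutator G = ⊥ := by
  classical
  have hxg : ∀ x ∈ Cfsg.charDegrees A, x.Coprime (Nat.gcd f n) := fun x hx =>
    hcop.coprime_dvd_left (dvd_card_of_degree A hx)
  have hxi : ∀ x ∈ Cfsg.charDegrees A, x.Coprime A.index := fun x hx =>
    coprime_of_primes fun r hr h1 h2 => hr.not_dvd_one
      ((hxg x hx).gcd_eq_one ▸ Nat.dvd_gcd h1 (hidx r hr h2))
  have hboth : ∀ x ∈ Cfsg.charDegrees A, x ∣ f → x ∣ n → x = 1 := fun x hx h1 h2 =>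
    Nat.eq_one_of_dvd_coprimes (hxg x hx) dvd_rfl (Nat.dvd_gcd h1 h2)
  have hover : ∀ x ∈ Cfsg.charDegrees A, x ≠ 1 →
      (x ∣ f ∧ f ∣ x * A.index) ∨ (x ∣ n ∧ n ∣ x * A.index) := by
    intro x hx hx1
    obtain ⟨c, hc, h1, h2⟩ := exists_over_degree A hx
    rcases hD c hc with rfl | rfl | rfl
    · exact absurd (Nat.dvd_one.1 h1) hx1
    · exact Or.inl ⟨h1, h2⟩
    · exact Or.inr ⟨h1, h2⟩
  have huniq : ∀ c, (c = f ∨ c = n) → ∀ x ∈ Cfsg.charDegrees A, ∀ y ∈ Cfsg.charDegrees A,
      x ≠ 1 → y ≠ 1 → x ∣ c → y ∣ c → x = y := by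
    intro c hc x hx y hy hx1 hy1 hxc hyc
    have hcx : ∀ z ∈ Cfsg.charDegrees A, z ≠ 1 → z ∣ c → c ∣ z * A.index := by
      intro z hz hz1 hzc
      rcases hc with rfl | rfl <;> rcases hover z hz hz1 with ⟨h1, h2⟩ | ⟨h1, h2⟩
      · exact h2
      · exact absurd (hboth z hz hzc h1) hz1
      · exact absurd (hboth z hz h1 hzc) hz1
      · exact h2
    exact eq_of_dvd hxc hyc (hcx x hx hx1 hxc) (hcx y hy hy1 hyc) (hxi x hx) (hxi y hy)
  obtain ⟨a, ha⟩ : ∃ a, (∀ x ∈ Cfsg.charDegrees A, x ≠ 1 → x ∣ f → x = a) ∧ a ∣ f ∧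
      a.Coprime (Nat.gcd f n) := by
    by_cases h : ∃ x ∈ Cfsg.charDegrees A, x ≠ 1 ∧ x ∣ f
    · obtain ⟨y, hy, hy1, hyf⟩ := h
      exact ⟨y, fun x hx hx1 hxf => huniq f (Or.inl rfl) x hx y hy hx1 hy1 hxf hyf, hyf, hxg y hy⟩
    · exact ⟨1, fun x hx hx1 hxf => absurd ⟨x, hx, hx1, hxf⟩ h, one_dvd _, Nat.coprime_one_left _⟩
  obtain ⟨b, hb⟩ : ∃ b, (∀ x ∈ Cfsg.charDegrees A, x ≠ 1 → x ∣ n → x = b) ∧ b ∣ n := by
    by_cases h : ∃ x ∈ Cfsg.charDegrees A, x ≠ 1 ∧ x ∣ n
    · obtain ⟨y, hy, hy1, hyf⟩ := h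
      exact ⟨y, fun x hx hx1 hxf => huniq n (Or.inr rfl) x hx y hy hx1 hy1 hxf hyf, hyf⟩
    · exact ⟨1, fun x hx hx1 hxf => absurd ⟨x, hx, hx1, hxf⟩ h, one_dvd _⟩
  have hab : a.Coprime b := Nat.eq_one_of_dvd_coprimes ha.2.2 (Nat.gcd_dvd_left a b)
    (Nat.dvd_gcd ((Nat.gcd_dvd_left a b).trans ha.2.1) ((Nat.gcd_dvd_right a b).trans hb.2))
  have hDA : ∀ d ∈ Cfsg.charDegrees A, d = 1 ∨ d = a ∨ d = b := by
    intro d hd
    by_cases hd1 : d = 1
    · exact Or.inl hd1
    rcases hover d hd hd1 with ⟨h1, -⟩ | ⟨h1, -⟩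
    · exact Or.inr (Or.inl (ha.1 d hd hd1 h1))
    · exact Or.inr (Or.inr (hb.1 d hd hd1 h1))
  have e : (commutator A).map A.subtype = commutator G := by
    rw [commutator_def, Subgroup.map_commutator, ← MonoidHom.range_eq_map, Subgroup.range_subtype]
    refine le_antisymm ?_ ?_
    · rw [commutator_def]; exact Subgroup.commutator_mono le_top le_top
    · conv_lhs => rw [← hperf]
      exact Subgroup.commutator_mono hGA hGA
  have hperfA : ⁅commutator A, commutator A⁆ = commutator A :=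
    Subgroup.map_injective A.subtype_injective (by rw [Subgroup.map_commutator, e, hperf])
  rw [← e, perfect_case hab hDA hperfA, Subgroup.map_bot]

/-- An element of prime-power order fixing only the identity gives a coprime order. -/
theorem not_dvd_of_fixedPointFree {α : Type*} [Group α] [Finite α] {q : ℕ} [Fact q.Prime]
    (σ : α ≃* α) (hσ : ∀ x, σ^[q] x = x) (hfix : ∀ x, σ x = x → x = 1) : ¬ q ∣ Nat.card α := by
  classical
  haveI := Fintype.ofFinite α
  intro hdvd
  let f : Function.End α := ⇑σ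
  have hpow : f ^ q ^ 1 = 1 := by
    rw [pow_one]
    funext x
    have hit : ∀ (j : ℕ) (y : α), (f ^ j) y = σ^[j] y := by
      intro j
      induction j with
      | zero => intro y; rfl
      | succ j ih =>
        intro y
        rw [pow_succ', Function.iterate_succ', Function.comp_apply, ← ih y]
        rfl
    exact (hit q x).trans (hσ x)
  have h1 := Equiv.Perm.card_fixedPoints_modEq hpow
  have h2 : Fintype.card (Function.fixedPoints f) = 1 := by
    rw [Fintype.card_eq_one_iff]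
    exact ⟨⟨1, map_one σ⟩, fun x => Subtype.ext (hfix x.1 x.2)⟩
  rw [h2, ← Nat.card_eq_fintype_card] at h1
  have h3 : 0 ≡ 1 [MOD q] := ((Nat.modEq_zero_iff_dvd.2 hdvd).symm).trans h1
  exact (Fact.out : q.Prime).not_dvd_one (Nat.modEq_zero_iff_dvd.1 h3.symm)

/-- A degree that is a nonabelian central quotient's, against the other degree. -/
theorem central_contra {f n : ℕ} (hD : ∀ d ∈ Cfsg.charDegrees G, d = 1 ∨ d = f ∨ d = n)
    {K : Subgroup G} [K.Normal] {q : ℕ} [Fact q.Prime] {t : ℕ}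
    (hidx : (Subgroup.center (G ⧸ K)).index = q ^ t) (ρ : Cfsg.IrrCharacter (G ⧸ K))
    (hρ : Cfsg.charDegree (ρ : G ⧸ K → ℂ) = f) (hf : 2 ≤ f) (hn : n ∈ Cfsg.charDegrees G)
    (hn2 : 2 ≤ n) (hqn : ¬ q ∣ n)
    (habs : ∀ z ∈ Subgroup.center (G ⧸ K), ∀ g, (ρ : G ⧸ K → ℂ) (z * g) *
      conj ((ρ : G ⧸ K → ℂ) (z * g)) = (ρ : G ⧸ K → ℂ) g * conj ((ρ : G ⧸ K → ℂ) g)) :
    False := by
  haveI := Fintype.ofFinite G
  set M := (Subgroup.center (G ⧸ K)).comap (QuotientGroup.mk' K) with hM
  haveI : M.Normal := Subgroup.Normal.comap inferInstance _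
  haveI := Fintype.ofFinite M
  obtain ⟨χ, hχ⟩ := hn
  have hcop : (Cfsg.charDegree (χ : G → ℂ)).Coprime M.index := by
    rw [hM, Subgroup.index_comap_of_surjective _ (QuotientGroup.mk'_surjective K), hidx, hχ]
    exact ((Fact.out : q.Prime).coprime_iff_not_dvd.2 hqn).symm.pow_right t
  have hirr := BoundedDegree.isIrr_mul_scalar M χ.2 (restrict_irr_of_coprime M χ hcop)
    (η := (ρ : G ⧸ K → ℂ) ∘ QuotientGroup.mk' K)
    (isIrrCharacter_comp_surjective _ (QuotientGroup.mk'_surjective K) ρ.2)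
    fun m g => by
      simp only [Function.comp_apply, map_mul]
      exact habs _ m.2 _
  have hdeg : Cfsg.charDegree ((ρ : G ⧸ K → ℂ) ∘ QuotientGroup.mk' K * (χ : G → ℂ)) = f * n :=
    charDegree_eq (isCharacter_of_isIrr hirr) (by
      rw [Pi.mul_apply, Function.comp_apply, map_one, ← charDegree_cast, ← charDegree_cast, hρ, hχ,
        Nat.cast_mul])
  have h1 := hD (f * n) ⟨⟨_, hirr⟩, hdeg⟩
  rcases h1 with h | h | h
  · have : 4 ≤ f * n := Nat.mul_le_mul hf hn2
    omega
  · have : f * 2 ≤ f * n := Nat.mul_le_mul_left f hn2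
    omega
  · have : 2 * n ≤ f * n := Nat.mul_le_mul_right n hf
    omega

/-- The Frobenius quotient. -/
theorem frobenius_case {f n : ℕ} (hD : ∀ d ∈ Cfsg.charDegrees G, d = 1 ∨ d = f ∨ d = n)
    (hn1 : n ≠ 1) {A : Subgroup G} [A.Normal] (hGA : commutator G ≤ A)
    (hcop : (Nat.card A).Coprime (Nat.gcd f n))
    (hidx : ∀ s : ℕ, s.Prime → s ∣ A.index → s ∣ Nat.gcd f n)
    (N : Subgroup G) [N.Normal] (hGN : commutator G ≤ N) (hNf : N.index = f) (hf : 2 ≤ f)
    (htwist : ∀ y ∈ Cfsg.charDegrees N, y ∣ f → f * y ∈ Cfsg.charDegrees G) :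
    derivedSeries G 3 = ⊥ := by
  set C := A ⊓ N with hC
  have hGC : commutator G ≤ C := le_inf hGA hGN
  haveI : C.Normal := Subgroup.Normal.of_commutator_le G hGC
  have hCidx : ∀ s : ℕ, s.Prime → s ∣ C.index → s ∣ f := by
    intro s hs h
    rw [← Subgroup.relIndex_mul_index (inf_le_right : A ⊓ N ≤ N), Subgroup.inf_relIndex_right,
      hNf] at h
    rcases hs.dvd_mul.1 h with h1 | h1
    · exact (hidx s hs (h1.trans (Subgroup.relIndex_dvd_index_of_normal A N))).trans
        (Nat.gcd_dvd_left f n)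
    · exact h1
  have hdata : ∀ x ∈ Cfsg.charDegrees C, x ≠ 1 → x ∣ n ∧ n ∣ x * C.index ∧ x.Coprime C.index := by
    intro x hx hx1
    have hxg : x.Coprime (Nat.gcd f n) :=
      hcop.coprime_dvd_left ((dvd_card_of_degree C hx).trans (Subgroup.card_dvd_of_le inf_le_left))
    have hx' : x ∈ Cfsg.charDegrees (C.subgroupOf N) :=
      SL2Degrees.charDegrees_subset_of_surjective
        (Subgroup.subgroupOfEquivOfLe (inf_le_right : A ⊓ N ≤ N)).toMonoidHom
        (Subgroup.subgroupOfEquivOfLe (inf_le_right : A ⊓ N ≤ N)).surjective hx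
    obtain ⟨y, hy, hxy, hyx⟩ := exists_over_degree (C.subgroupOf N) hx'
    obtain ⟨c, hc, hyc, hcy⟩ := exists_over_degree N hy
    have hy1 : y ≠ 1 := fun e => hx1 (Nat.dvd_one.1 (e ▸ hxy))
    rcases hD c hc with rfl | rfl | rfl
    · exact absurd (Nat.dvd_one.1 hyc) hy1
    · exfalso
      have hyp := pos_of_mem hy
      rcases hD _ (htwist y hy hyc) with h | h | h
      · have h2 : c * 2 ≤ c * y := Nat.mul_le_mul_left c (by omega)
        omega
      · have h2 : c * 2 ≤ c * y := Nat.mul_le_mul_left c (by omega)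
        omega
      · refine hx1 (Nat.eq_one_of_dvd_coprimes hxg dvd_rfl (Nat.dvd_gcd (hxy.trans hyc) ?_))
        exact h ▸ dvd_mul_of_dvd_right hxy c
    · have hxn := hxy.trans hyc
      have hcx : c ∣ x * C.index := by
        refine hcy.trans ?_
        rw [show C.index = C.relIndex N * N.index from
          (Subgroup.relIndex_mul_index inf_le_right).symm, ← mul_assoc]
        exact mul_dvd_mul_right hyx _
      refine ⟨hxn, hcx, coprime_of_primes fun r hr h1 h2 => hr.not_dvd_one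
        (hxg.gcd_eq_one ▸ Nat.dvd_gcd h1 (Nat.dvd_gcd (hCidx r hr h2) (h1.trans hxn)))⟩
  refine derived_three_eq_bot (B := ⁅C, C⁆) (derived_two_le (derivedSeries_one G ▸ hGC))
    (derived_two_sub C fun a ha b hb ha1 hb1 => ?_)
  obtain ⟨x1, x2, x3⟩ := hdata a ha ha1
  obtain ⟨y1, y2, y3⟩ := hdata b hb hb1
  exact eq_of_dvd x1 y1 x2 y2 x3 y3

/-- Derived length at most three. -/
theorem main {f n : ℕ} (hD : ∀ d ∈ Cfsg.charDegrees G, d = 1 ∨ d = f ∨ d = n) (hf2 : 2 ≤ f)
    (hn2 : 2 ≤ n) (hfn : f ≠ n) (hfD : f ∈ Cfsg.charDegrees G) (hnD : n ∈ Cfsg.charDegrees G) :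
    derivedSeries G 3 = ⊥ := by
  classical
  by_contra hgoal
  haveI := Fintype.ofFinite G
  have hH : ∀ r : ℕ, r.Prime → r ∣ Nat.gcd f n → ∃ H : Subgroup G, H.Normal ∧
      (Nat.card H).Coprime r ∧ (∃ k, H.index = r ^ k) ∧ commutator G ≤ H := by
    intro r hr hrg
    obtain ⟨H, hHn, hcop, k, hk⟩ := normal_complement (G := G) hr fun d hd hd1 => by
      rcases hD d hd with rfl | rfl | rfl
      · exact absurd rfl hd1
      · exact hrg.trans (Nat.gcd_dvd_left _ _)
      · exact hrg.trans (Nat.gcd_dvd_right _ _)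
    refine ⟨H, hHn, hcop, ⟨k, hk⟩, ?_⟩
    by_contra hna
    haveI := hHn
    haveI := Fact.mk hr
    exact hgoal (nilpotent_case H hcop hk hD hna)
  have hg0 : Nat.gcd f n ≠ 0 := Nat.gcd_ne_zero_left (by omega)
  obtain ⟨A, hAn, hGA, hcop, hidx⟩ := exists_coprime_part hg0 hH
  haveI := hAn
  by_cases hperf : ⁅commutator G, commutator G⁆ = commutator G
  · refine hgoal (le_bot_iff.1 ((derivedSeries_antitone G (show 1 ≤ 3 by norm_num)).trans ?_))
    rw [derivedSeries_one, perfect_derived hD hGA hcop hidx hperf]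
  have hnle : ¬ commutator G ≤ ⁅commutator G, commutator G⁆ := fun h =>
    hperf (le_antisymm (Subgroup.commutator_le_self _) h)
  haveI : (⁅commutator G, commutator G⁆).Normal := Subgroup.commutator_normal _ _
  obtain ⟨K, ⟨hKn, hKle, hKne⟩, hmax⟩ := (Set.toFinite
    {K : Subgroup G | K.Normal ∧ ⁅commutator G, commutator G⁆ ≤ K ∧ ¬ commutator G ≤ K}).exists_maximal
      ⟨_, inferInstance, le_rfl, hnle⟩
  haveI := hKn
  set π := QuotientGroup.mk' K with hπ
  have hmap : commutator (G ⧸ K) = (commutator G).map π := by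
    rw [commutator_def, commutator_def, Subgroup.map_commutator,
      Subgroup.map_top_of_surjective _ (QuotientGroup.mk'_surjective K)]
  have hQ : BoundedDegree.MinQ (G ⧸ K) := by
    refine ⟨?_, fun M hM hMne => ?_⟩
    · rw [hmap, Ne, Subgroup.map_eq_bot_iff, QuotientGroup.ker_mk']
      exact hKne
    · have hKM : K ≤ M.comap π := fun x hx => by
        show π x ∈ M
        rw [show π x = 1 from (QuotientGroup.eq_one_iff x).2 hx]
        exact one_mem _
      by_contra hno
      have hno' : ¬ commutator G ≤ M.comap π := fun h => hno (by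
        rw [hmap, Subgroup.map_le_iff_le_comap]; exact h)
      have h1 := hmax ⟨hM.comap π, hKle.trans hKM, hno'⟩ hKM
      refine hMne ?_
      rw [← Subgroup.map_comap_eq_self_of_surjective (QuotientGroup.mk'_surjective K) M,
        Subgroup.map_eq_bot_iff, QuotientGroup.ker_mk']
      exact h1
  have hab : ∀ a ∈ commutator (G ⧸ K), ∀ b ∈ commutator (G ⧸ K), a * b = b * a := by
    rw [hmap]
    rintro _ ⟨a, ha, rfl⟩ _ ⟨b, hb, rfl⟩
    rw [← commutatorElement_eq_one_iff_mul_comm, ← map_commutatorElement]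
    exact (QuotientGroup.eq_one_iff _).2 (hKle (Subgroup.commutator_mem_commutator ha hb))
  by_cases hcen : commutator (G ⧸ K) ≤ Subgroup.center (G ⧸ K)
  · -- central
    obtain ⟨ρ, r, hρ, hρ1, hr2, hidx2, habs⟩ := BoundedDegree.central_case hQ hcen
    have hρdeg : Cfsg.charDegree ρ = r := charDegree_eq (isCharacter_of_isIrr hρ) hρ1
    set q := (Nat.card (commutator (G ⧸ K))).minFac with hqdef
    have hq : q.Prime := Nat.minFac_prime fun e => hQ.ne (Subgroup.card_eq_one.1 e)
    haveI := Fact.mk hq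
    obtain ⟨c, hc⟩ := exists_prime_orderOf_dvd_card' q (Nat.minFac_dvd
      (Nat.card (commutator (G ⧸ K))))
    have hcz : ((c : G ⧸ K)) ∈ Subgroup.center (G ⧸ K) := hcen c.2
    haveI : (Subgroup.zpowers (c : G ⧸ K)).Normal := ⟨fun y hy g => by
      have hyz : y ∈ Subgroup.center (G ⧸ K) := Subgroup.zpowers_le.2 hcz hy
      rwa [Subgroup.mem_center_iff.1 hyz g, mul_inv_cancel_right]⟩
    have hexp : ∀ d ∈ commutator (G ⧸ K), d ^ q = 1 := fun d hd => by
      have h1 := hQ.min (Subgroup.zpowers (c : G ⧸ K)) inferInstance (fun e => by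
        rw [Subgroup.zpowers_eq_bot, OneMemClass.coe_eq_one] at e
        rw [e, orderOf_one] at hc
        exact hq.ne_one hc.symm) hd
      obtain ⟨i, rfl⟩ := Subgroup.mem_zpowers_iff.1 h1
      rw [← zpow_natCast, ← zpow_mul, mul_comm, zpow_mul, zpow_natCast, ← hc,
        ← Subgroup.coe_pow, pow_orderOf_eq_one]
      simp
    have hpow : IsPGroup q ((G ⧸ K) ⧸ Subgroup.center (G ⧸ K)) := by
      intro z
      obtain ⟨x, rfl⟩ := QuotientGroup.mk'_surjective (Subgroup.center (G ⧸ K)) z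
      refine ⟨1, ?_⟩
      rw [pow_one, ← map_pow]
      refine (QuotientGroup.eq_one_iff _).2 (Subgroup.mem_center_iff.2 fun y => ?_)
      set d := ⁅y, x⁆ with hd
      have hdD : d ∈ commutator (G ⧸ K) :=
        Subgroup.commutator_mem_commutator (Subgroup.mem_top y) (Subgroup.mem_top x)
      have hdx : Commute d x := Subgroup.mem_center_iff.1 (hcen hdD) x |>.symm
      have h1 : y * x * y⁻¹ = d * x := by rw [hd, commutatorElement_def]; group
      have h2 : y * x ^ q * y⁻¹ = x ^ q := by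
        rw [← conj_pow, h1, hdx.mul_pow, hexp d hdD, one_mul]
      rwa [mul_inv_eq_iff_eq_mul] at h2
    obtain ⟨t, ht⟩ := IsPGroup.iff_card.1 hpow
    rw [← Subgroup.index_eq_card] at ht
    have hqr : q ∣ r := by
      have h1 : r ∣ q ^ t := ht ▸ hidx2 ▸ dvd_pow_self r two_ne_zero
      obtain ⟨j, -, hj⟩ := (Nat.dvd_prime_pow hq).1 h1
      rcases Nat.eq_zero_or_pos j with rfl | hj0
      · rw [pow_zero] at hj; omega
      · exact hj ▸ dvd_pow_self q hj0.ne'
    have hnotg : ¬ q ∣ Nat.gcd f n := by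
      intro hqg
      obtain ⟨H, -, hHcop, -, hle⟩ := hH q hq hqg
      obtain ⟨x, hx, hxc⟩ : (c : G ⧸ K) ∈ (commutator G).map π := hmap ▸ c.2
      have h1 : q ∣ orderOf x := by
        rw [← hc, ← Subgroup.orderOf_coe c, ← hxc]
        exact orderOf_map_dvd π x
      refine hq.not_dvd_one (hHcop.gcd_eq_one ▸ Nat.dvd_gcd (h1.trans ?_) dvd_rfl)
      rw [← Subgroup.orderOf_mk x (hle hx)]
      exact orderOf_dvd_natCard _
    have hrD := hD r (mem_of_quotient K ⟨⟨ρ, hρ⟩, hρdeg⟩)
    rcases hrD with h | h | h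
    · omega
    · exact central_contra hD ht ⟨ρ, hρ⟩ (hρdeg.trans h) hf2 hnD hn2
        (fun e => hnotg (Nat.dvd_gcd (h ▸ hqr) e)) habs
    · exact central_contra (fun d hd => (hD d hd).imp_right Or.symm) ht ⟨ρ, hρ⟩ (hρdeg.trans h)
        hn2 hfD hf2 (fun e => hnotg (Nat.dvd_gcd e (h ▸ hqr))) habs
  -- abelian, not central
  obtain ⟨hi2, hmoved, -⟩ := BoundedDegree.abelian_case hQ hcen hab
  set D := commutator (G ⧸ K) with hDdef
  haveI : D.Normal := by rw [hDdef]; infer_instance
  set N := D.comap π with hN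
  haveI : N.Normal := Subgroup.Normal.comap inferInstance _
  have hNi : N.index = D.index :=
    Subgroup.index_comap_of_surjective _ (QuotientGroup.mk'_surjective K)
  have hGN : commutator G ≤ N := by
    rw [hN, ← Subgroup.map_le_iff_le_comap, hmap]
  have hKN : K ≤ N := fun x hx => by
    show π x ∈ D
    rw [show π x = 1 from (QuotientGroup.eq_one_iff x).2 hx]
    exact one_mem _
  letI : CommGroup D :=
    { (inferInstance : Group D) with mul_comm := fun a b => Subtype.ext (hab a a.2 b b.2) }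
  have hcopD : (Nat.card D).Coprime D.index := by
    refine coprime_of_primes fun q hq hqD hqi => ?_
    haveI := Fact.mk hq
    rw [Subgroup.index_eq_card] at hqi
    obtain ⟨z, hz⟩ := exists_prime_orderOf_dvd_card' q hqi
    obtain ⟨t, rfl⟩ := QuotientGroup.mk'_surjective D z
    have htD : t ∉ D := fun h => by
      rw [show QuotientGroup.mk' D t = 1 from (QuotientGroup.eq_one_iff t).2 h, orderOf_one] at hz
      exact hq.ne_one hz.symm
    have htq : t ^ q ∈ D := by
      refine (QuotientGroup.eq_one_iff _).1 ?_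
      show QuotientGroup.mk' D (t ^ q) = 1
      rw [map_pow, ← hz, pow_orderOf_eq_one]
    refine not_dvd_of_fixedPointFree (MulAut.conjNormal t : D ≃* D) (fun x => ?_) (fun x hx => ?_) hqD
    · have hit : ∀ j, (MulAut.conjNormal t : D ≃* D)^[j] x = MulAut.conjNormal (t ^ j) x := by
        intro j
        induction j with
        | zero => simp
        | succ j ih =>
          rw [Function.iterate_succ', Function.comp_apply, ih, ← MulAut.mul_apply, ← map_mul,
            ← pow_succ']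
      rw [hit]
      refine Subtype.ext ?_
      rw [MulAut.conjNormal_apply, hab _ htq x x.2, mul_inv_cancel_right]
    · refine Subtype.ext (hmoved t htD x x.2 ?_)
      have e := congrArg Subtype.val hx
      rw [MulAut.conjNormal_apply] at e
      exact mul_inv_eq_iff_eq_mul.1 e
  haveI := Fintype.ofFinite N
  set K' := K.subgroupOf N with hK'
  haveI := Fintype.ofFinite K'
  let πN : N →* D := π.subgroupComap D
  obtain ⟨d₀, hd₀⟩ := Subgroup.ne_bot_iff_exists_ne_one.1 hQ.ne
  obtain ⟨lam, hlam⟩ := CommGroup.exists_apply_ne_one_of_hasEnoughRootsOfUnity D ℂ hd₀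
  set μ₀ : N →* ℂˣ := lam.comp πN with hμ₀def
  have hπK : ∀ k ∈ K', πN k = 1 := fun k hk => Subtype.ext ((QuotientGroup.eq_one_iff (k : G)).2 hk)
  have hμ₀1 : μ₀ ≠ 1 := fun e => hlam (by
    obtain ⟨x, hx⟩ := π.subgroupComap_surjective_of_surjective D (QuotientGroup.mk'_surjective K) d₀
    have h1 := DFunLike.congr_fun e x
    rw [hμ₀def, MonoidHom.comp_apply, MonoidHom.one_apply] at h1
    rwa [show πN x = d₀ from hx] at h1)
  have htwist : ∀ y ∈ Cfsg.charDegrees N, y.Coprime (Nat.card D) →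
      N.index * y ∈ Cfsg.charDegrees G := by
    rintro y ⟨ψ, rfl⟩ hy
    have hcop' : (Cfsg.charDegree (ψ : N → ℂ)).Coprime K'.index := by
      refine hy.coprime_dvd_right (dvd_of_eq ?_)
      have h1 : K.relIndex N * N.index = K.index := Subgroup.relIndex_mul_index hKN
      rw [hNi] at h1
      have h2 : Nat.card D * D.index = K.index := by
        rw [D.card_mul_index, ← Subgroup.index_eq_card]
      exact Nat.eq_of_mul_eq_mul_right (Nat.pos_of_ne_zero Subgroup.index_ne_zero_of_finite)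
        (h1.trans h2.symm)
    refine index_mul_mem N hGN K' μ₀ (fun k hk => by
      rw [hμ₀def, MonoidHom.comp_apply, hπK k hk, map_one]) hμ₀1 (fun g k hk => ?_)
      (fun μ hμ t ht hfix => ?_) ψ (restrict_irr_of_coprime K' ψ hcop')
    · rw [hK', Subgroup.mem_subgroupOf, MulAut.conjNormal_apply]
      exact hKn.conj_mem _ hk g
    · have htD : π t ∉ D := ht
      let e : D → D := fun d => MulAut.conjNormal (π t) d * d⁻¹
      have he : Function.Injective e := fun a b h => by
        have h' : MulAut.conjNormal (π t) (a * b⁻¹) = a * b⁻¹ := by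
          rw [map_mul, map_inv, ← div_eq_mul_inv, ← div_eq_mul_inv, div_eq_div_iff_div_eq_div,
            div_eq_mul_inv, div_eq_mul_inv]
          exact h
        have h'' := congrArg Subtype.val h'
        rw [MulAut.conjNormal_apply] at h''
        exact mul_inv_eq_one.1 (Subtype.ext (hmoved _ htD _ (a * b⁻¹).2
          (mul_inv_eq_iff_eq_mul.1 h'')))
      refine MonoidHom.ext fun w => ?_
      obtain ⟨d, hd⟩ := Finite.injective_iff_surjective.1 he (πN w)
      obtain ⟨v, hv⟩ := π.subgroupComap_surjective_of_surjective D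
        (QuotientGroup.mk'_surjective K) d
      set w' : N := MulAut.conjNormal t v * v⁻¹ with hw'
      have h1 : πN w' = πN w := by
        rw [← hd, hw', map_mul, map_inv, show πN v = d from hv]
        refine congrArg (· * d⁻¹) (Subtype.ext ?_)
        show π (MulAut.conjNormal t v : N) = _
        rw [MulAut.conjNormal_apply, MulAut.conjNormal_apply, map_mul, map_mul, map_inv,
          show π (v : G) = (d : G ⧸ K) from congrArg Subtype.val hv]
      have h2 : w * w'⁻¹ ∈ K' := by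
        have h3 : πN (w * w'⁻¹) = 1 := by rw [map_mul, map_inv, h1, mul_inv_cancel]
        rw [hK', Subgroup.mem_subgroupOf]
        exact (QuotientGroup.eq_one_iff _).1 (congrArg Subtype.val h3)
      have h4 : μ w' = 1 := by rw [hw', map_mul, map_inv, hfix, mul_inv_cancel]
      have h5 := hμ _ h2
      rw [map_mul, map_inv, h4, inv_one, mul_one] at h5
      exact h5
  have hiD : D.index ∈ Cfsg.charDegrees G := by
    have := htwist 1 one_mem_degrees (Nat.coprime_one_left _)
    rwa [mul_one, hNi] at this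
  have hty : ∀ y ∈ Cfsg.charDegrees N, y ∣ N.index → N.index * y ∈ Cfsg.charDegrees G :=
    fun y hy hdvd => htwist y hy ((hcopD.symm).coprime_dvd_left (hNi ▸ hdvd))
  rcases hD _ hiD with h | h | h
  · omega
  · exact hgoal (frobenius_case hD (by omega) hGA hcop hidx N hGN (hNi.trans h) hf2
      fun y hy hdvd => (hNi.trans h) ▸ hty y hy ((hNi.trans h).symm ▸ hdvd))
  · exact hgoal (frobenius_case (f := n) (n := f) (fun d hd => (hD d hd).imp_right Or.symm)
      (by omega) hGA (Nat.gcd_comm f n ▸ hcop) (Nat.gcd_comm f n ▸ hidx) N hGN (hNi.trans h) hn2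
      fun y hy hdvd => (hNi.trans h) ▸ hty y hy ((hNi.trans h).symm ▸ hdvd))

end Cfsg.Agent.BlocksChars.ThreeDegrees
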