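import Cfsg.Agent.BlocksChars.ThreeDegrees.Basic
import Cfsg.Agent.Lib.Characters.Monomial

/-!
# Three degrees, with a nonabelian quotient of prime power order
-/

set_option autoImplicit false
set_option linter.style.haveILetI false
set_option linter.unusedSectionVars false

namespace Cfsg.Agent.BlocksChars.ThreeDegrees

open Cfsg.Agent.Characters Cfsg.Agent.CharTheory Cfsg.Agent.BlocksChars.Degrees
open scoped commutatorElement

universe u

variable {G : Type u} [Group G] [Finite G]

/-- Characters of degree below the index see whether a subgroup lies in `T`. -/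
theorem small_le (H : Subgroup G) [hH : H.Normal] {T K : Subgroup G} (hHT : H ≤ T)
    (hsmall : ∀ η : Cfsg.IrrCharacter G, (∀ h ∈ H, (η : G → ℂ) h = (η : G → ℂ) 1) →
      Cfsg.charDegree (η : G → ℂ) < T.index → ∀ z ∈ K, (η : G → ℂ) z = (η : G → ℂ) 1) :
    K ≤ T := by
  classical
  haveI := Fintype.ofFinite G
  haveI := Fintype.ofFinite T
  intro z hz
  set ξ : G → ℂ := Cfsg.indFun T (fun _ => 1) with hξ
  have hξc : Cfsg.IsCharacter G ξ := isCharacter_indFun T isCharacter_one
  haveI := Fintype.ofFinite (Cfsg.IrrCharacter G)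
  have htriv : Cfsg.classInner ξ (fun _ => 1) = 1 := by
    have hcl1 : Cfsg.IsClassFunction G fun _ => (1 : ℂ) := fun _ _ => rfl
    rw [hξ, frobenius_reciprocity T _ hcl1]
    exact classInner_isIrr_self isIrrCharacter_one
  have hξ1c : Cfsg.IsCharacter G (ξ - fun _ => 1) := by
    refine isCharacter_of_classInner_nat (fun a b => ?_) fun ψ hψ => ?_
    · simp [indFun_isClassFunction T (fun _ => 1) a b, hξ]
    · rw [classInner_sub_left]
      by_cases h1 : ψ = fun _ => 1
      · subst h1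
        exact ⟨0, by rw [htriv, classInner_isIrr_self isIrrCharacter_one]; simp⟩
      · obtain ⟨n, hn⟩ := classInner_char_nat hξc (isCharacter_of_isIrr hψ)
        exact ⟨n, by rw [classInner_isIrr_ne isIrrCharacter_one hψ (Ne.symm h1), sub_zero, hn]⟩
  have hξH : ∀ h ∈ H, ξ h = ξ 1 := by
    intro h hh
    rw [hξ, IndBasic.indFun_one_eq_card_fixed, indFun_one, mul_one, Nat.cast_inj, T.index_eq_card]
    refine Nat.card_congr (Equiv.subtypeUnivEquiv fun c => ?_)
    induction c using QuotientGroup.induction_on with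
    | _ y =>
      show ((h * y : G) : G ⧸ T) = (y : G ⧸ T)
      rw [QuotientGroup.eq]
      have := T.inv_mem (hHT (hH.conj_mem h hh y⁻¹))
      simpa [mul_assoc] using this
  have hker : ∀ ψ : Cfsg.IrrCharacter G, Cfsg.classInner ξ (ψ : G → ℂ) ≠ 0 →
      (ψ : G → ℂ) z = (ψ : G → ℂ) 1 := by
    intro ψ hne
    by_cases h1 : (ψ : G → ℂ) = fun _ => 1
    · rw [h1]
    refine hsmall ψ (fun h hh => BlockCharsA.Garrison.constituent_kernel hξc ψ.2 hne (hξH h hh))
      ?_ z hz
    have h3 := irr_degree_le hξ1c ψ.2 (by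
      rw [classInner_sub_left, classInner_isIrr_ne isIrrCharacter_one ψ.2 (Ne.symm h1), sub_zero]
      exact hne)
    rw [← charDegree_cast, Complex.natCast_re, Pi.sub_apply, hξ, indFun_one, mul_one,
      Complex.sub_re, Complex.natCast_re, Complex.one_re] at h3
    have h4 : (Cfsg.charDegree (ψ : G → ℂ) : ℝ) < T.index := by linarith
    exact_mod_cast h4
  have hξz : ξ z = ξ 1 := by
    rw [classFun_eq_sum (char_isClassFunction hξc)]
    simp only [Finset.sum_apply, Pi.smul_apply, smul_eq_mul]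
    refine Finset.sum_congr rfl fun ψ _ => ?_
    by_cases h0 : Cfsg.classInner ξ (ψ : G → ℂ) = 0
    · rw [h0, zero_mul, zero_mul]
    · rw [hker ψ h0]
  rw [hξ, IndBasic.indFun_one_eq_card_fixed, indFun_one, mul_one, Nat.cast_inj,
    T.index_eq_card] at hξz
  by_contra hzT
  haveI := Fintype.ofFinite (G ⧸ T)
  have hlt := Fintype.card_subtype_lt (p := fun c : G ⧸ T => z • c = c) (x := ((1 : G) : G ⧸ T))
    fun e => hzT (by
      have e' : ((z * 1 : G) : G ⧸ T) = ((1 : G) : G ⧸ T) := e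
      rw [QuotientGroup.eq] at e'
      simpa using e')
  simp only [← Nat.card_eq_fintype_card] at hlt
  omega

/-- Taketa's step, over a nilpotent quotient. -/
theorem kernel_step (H : Subgroup G) [H.Normal] [Group.IsNilpotent (G ⧸ H)] (K : Subgroup G)
    [K.Normal] (d : ℕ)
    (hsmall : ∀ η : Cfsg.IrrCharacter G, (∀ h ∈ H, (η : G → ℂ) h = (η : G → ℂ) 1) →
      Cfsg.charDegree (η : G → ℂ) < d → ∀ z ∈ K, (η : G → ℂ) z = (η : G → ℂ) 1)
    (η : Cfsg.IrrCharacter G) (hη : ∀ h ∈ H, (η : G → ℂ) h = (η : G → ℂ) 1)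
    (hd : Cfsg.charDegree (η : G → ℂ) ≤ d) : ∀ z ∈ ⁅K, K⁆, (η : G → ℂ) z = (η : G → ℂ) 1 := by
  classical
  haveI := Fintype.ofFinite G
  haveI := Fintype.ofFinite (G ⧸ H)
  obtain ⟨ψ, -, hψ, hirr⟩ := exists_deflate_quotient H (irr_isCharacter η) hη
  obtain ⟨U, lam, he⟩ := Monomial.monomial_of_nilpotent (hirr η.2)
  set T := U.comap (QuotientGroup.mk' H) with hT
  haveI := Fintype.ofFinite T
  set μ : T →* ℂˣ := lam.comp ((QuotientGroup.mk' H).subgroupComap U) with hμ
  have hηT : (η : G → ℂ) = Cfsg.indFun T (fun t => (μ t : ℂ)) := by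
    show (η : G → ℂ) = Cfsg.indFun (U.comap (QuotientGroup.mk' H))
      (fun t => (lam ⟨QuotientGroup.mk' H t, t.2⟩ : ℂ))
    refine Eq.trans ?_ (Monomial.indFun_comap (QuotientGroup.mk' H) (QuotientGroup.mk'_surjective H)
      U (fun u => (lam u : ℂ))).symm
    funext g
    rw [← he]
    exact (hψ g).symm
  have hidx : T.index = Cfsg.charDegree (η : G → ℂ) := by
    refine (charDegree_eq (irr_isCharacter η) ?_).symm
    rw [hηT, indFun_one, map_one, Units.val_one, mul_one]
  have hKT : K ≤ T := small_le H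
    (fun h hh => by
      show QuotientGroup.mk' H h ∈ U
      rw [show QuotientGroup.mk' H h = 1 from (QuotientGroup.eq_one_iff h).2 hh]
      exact one_mem _)
    fun η' h1 h2 => hsmall η' h1 (h2.trans_le (hidx ▸ hd))
  have hker : ⁅K, K⁆ ≤ μ.ker.map T.subtype := by
    rw [Subgroup.commutator_le]
    intro a ha b hb
    refine ⟨⁅(⟨a, hKT ha⟩ : T), ⟨b, hKT hb⟩⁆, ?_, by simp [commutatorElement_def]⟩
    rw [SetLike.mem_coe, MonoidHom.mem_ker, map_commutatorElement]
    exact commutatorElement_eq_one_iff_commute.2 (Commute.all _ _)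
  intro z hz
  rw [hηT, indFun_one, map_one, Units.val_one, mul_one]
  apply mul_left_cancel₀ (natCard_ne_zero (G := T))
  rw [IndBasic.card_mul_indFun, Finset.sum_congr rfl (g := fun _ => (1 : ℂ)) fun y _ => ?_]
  · rw [Finset.sum_const, Finset.card_univ, nsmul_one, ← Nat.card_eq_fintype_card,
      ← Nat.cast_mul, T.card_mul_index]
  · haveI : (⁅K, K⁆).Normal := Subgroup.commutator_normal K K
    have hy : y⁻¹ * z * y ∈ ⁅K, K⁆ := by
      simpa using Subgroup.Normal.conj_mem inferInstance z hz y⁻¹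
    obtain ⟨t, ht, hty⟩ := hker hy
    rw [IndBasic.extendByZero_of_mem T _ (hty ▸ t.2),
      show (⟨y⁻¹ * z * y, hty ▸ t.2⟩ : T) = t from Subtype.ext hty.symm,
      MonoidHom.mem_ker.1 ht, Units.val_one]

theorem le_of_all_kernels (H K : Subgroup G) [H.Normal]
    (h : ∀ η : Cfsg.IrrCharacter G, (∀ x ∈ H, (η : G → ℂ) x = (η : G → ℂ) 1) →
      ∀ z ∈ K, (η : G → ℂ) z = (η : G → ℂ) 1) : K ≤ H := by
  intro z hz
  haveI := Fintype.ofFinite (G ⧸ H)
  refine (QuotientGroup.eq_one_iff z).1 (eq_one_of_forall_irr fun β => ?_)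
  exact h ⟨_, isIrrCharacter_comp_surjective _ (QuotientGroup.mk'_surjective H) β.2⟩
    (fun x hx => by
      show (β : G ⧸ H → ℂ) (QuotientGroup.mk' H x) = (β : G ⧸ H → ℂ) (QuotientGroup.mk' H 1)
      rw [show QuotientGroup.mk' H x = 1 from (QuotientGroup.eq_one_iff x).2 hx, map_one]) z hz

section

variable {p : ℕ} (H : Subgroup G) [H.Normal] {k : ℕ}

theorem degree_pow (hp : p.Prime) (hk : H.index = p ^ k) (η : Cfsg.IrrCharacter G)
    (hη : ∀ h ∈ H, (η : G → ℂ) h = (η : G → ℂ) 1) :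
    ∃ e, Cfsg.charDegree (η : G → ℂ) = p ^ e := by
  haveI := Fintype.ofFinite (G ⧸ H)
  obtain ⟨ψ, -, hψ, hirr⟩ := exists_deflate_quotient H (irr_isCharacter η) hη
  have h1 := charDegree_dvd_card (G := G ⧸ H) ⟨ψ, hirr η.2⟩
  rw [← Subgroup.index_eq_card, hk] at h1
  have h2 : Cfsg.charDegree (η : G → ℂ) = Cfsg.charDegree ψ := by
    unfold Cfsg.charDegree
    rw [← hψ 1]
    rfl
  obtain ⟨e, -, he⟩ := (Nat.dvd_prime_pow hp).1 h1
  exact ⟨e, h2.trans he⟩

/-- The inertia index of a linear character is a degree, and small degrees bound its kernel. -/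
theorem fix_linear (hp : p.Prime) (hcop : (Nat.card H).Coprime p) (hk : H.index = p ^ k)
    (K : Subgroup G)
    (h : ∀ s ∈ Cfsg.charDegrees G, (∃ e, s = p ^ e) → ∀ η : Cfsg.IrrCharacter G,
      (∀ x ∈ H, (η : G → ℂ) x = (η : G → ℂ) 1) → Cfsg.charDegree (η : G → ℂ) < s →
      ∀ z ∈ K, (η : G → ℂ) z = (η : G → ℂ) 1)
    (l : H →* ℂˣ) : ∀ z ∈ K, ∀ v : H, l (MulAut.conjNormal z v) = l v := by
  let T : Subgroup G :=
    { carrier := {g | ∀ v : H, l (MulAut.conjNormal g v) = l v}
      one_mem' := fun v => by simp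
      mul_mem' := fun {a b} ha hb v => by
        rw [map_mul, MulAut.mul_apply, ha, hb]
      inv_mem' := fun {a} ha v => by
        have h1 := ha (MulAut.conjNormal a⁻¹ v)
        rw [← MulAut.mul_apply, ← map_mul, mul_inv_cancel, map_one, MulAut.one_apply] at h1
        exact h1.symm }
  have hHT : H ≤ T := fun x hx v => by
    have e : MulAut.conjNormal x v = (⟨x, hx⟩ : H) * v * (⟨x, hx⟩ : H)⁻¹ :=
      Subtype.ext (by simp [MulAut.conjNormal_apply])
    rw [e, map_mul, map_mul, map_inv, mul_comm (l ⟨x, hx⟩), mul_inv_cancel_right]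
  obtain ⟨e, he⟩ := TwoDegrees.exists_extension hHT (by rw [hk]; exact hcop.pow_right k) l
    fun t ht => ht
  have hmem := Palfy.index_mem_linear H l T (fun g => Iff.rfl) hHT e he
  have hdvd := Subgroup.index_dvd_of_le hHT
  rw [hk] at hdvd
  obtain ⟨j, -, hj⟩ := (Nat.dvd_prime_pow hp).1 hdvd
  exact small_le H hHT (h _ hmem ⟨j, hj⟩)

end

/-- A nonabelian quotient of prime power order, coprime kernel. -/
theorem nilpotent_case_aux {p : ℕ} [Fact p.Prime] (H : Subgroup G) [H.Normal] {k : ℕ}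
    (hcop : (Nat.card H).Coprime p) (hk : H.index = p ^ k) {f n e : ℕ}
    (hD : ∀ d ∈ Cfsg.charDegrees G, d = 1 ∨ d = f ∨ d = n) (hf : f = p ^ e) :
    derivedSeries G 3 = ⊥ := by
  have hp : p.Prime := Fact.out
  haveI : Group.IsNilpotent (G ⧸ H) :=
    (IsPGroup.of_card (p := p) (n := k) (by rw [← Subgroup.index_eq_card, hk])).isNilpotent
  have hcop' : (Nat.card H).Coprime H.index := by rw [hk]; exact hcop.pow_right k
  haveI : ∀ j, (derivedSeries G j).Normal := derivedSeries_normal G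
  have h1 : ∀ η : Cfsg.IrrCharacter G, Cfsg.charDegree (η : G → ℂ) = 1 →
      ∀ z ∈ derivedSeries G 1, (η : G → ℂ) z = (η : G → ℂ) 1 := fun η hη z hz =>
    commutator_le_linear_ker (irr_isCharacter η) (by rw [← charDegree_cast, hη, Nat.cast_one])
      (derivedSeries_one G ▸ hz)
  -- degrees of `H`
  have hHdeg : ∀ a ∈ Cfsg.charDegrees H, a ≠ 1 → a ∣ n ∧ n ∣ a * H.index ∧ a.Coprime H.index := by
    intro a ha ha1
    obtain ⟨c, hc, h1, h2⟩ := exists_over_degree H ha
    have hac : a.Coprime H.index := by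
      obtain ⟨φ, rfl⟩ := ha
      haveI := Fintype.ofFinite H
      exact hcop'.coprime_dvd_left (charDegree_dvd_card φ)
    rcases hD c hc with rfl | rfl | rfl
    · exact absurd (Nat.dvd_one.1 h1) ha1
    · exfalso
      refine ha1 (Nat.eq_one_of_dvd_coprimes (?_ : a.Coprime (p ^ e)) dvd_rfl (hf ▸ h1))
      refine Nat.Coprime.pow_right e ?_
      obtain ⟨φ, rfl⟩ := ha
      haveI := Fintype.ofFinite H
      exact hcop.coprime_dvd_left (charDegree_dvd_card φ)
    · exact ⟨h1, h2, hac⟩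
  by_cases hn : ∃ j, n = p ^ j
  · -- all degrees are powers of `p`
    obtain ⟨j, rfl⟩ := hn
    have hHlin : ∀ φ : Cfsg.IrrCharacter H, Cfsg.charDegree (φ : H → ℂ) = 1 := by
      intro φ
      by_contra hne
      haveI := Fintype.ofFinite H
      exact hne (Nat.eq_one_of_dvd_coprimes
        ((hcop.coprime_dvd_left (charDegree_dvd_card φ)).pow_right j) dvd_rfl
        (hHdeg _ ⟨φ, rfl⟩ hne).1)
    have hHab : ⁅H, H⁆ = ⊥ := by
      have hc := ItoPSolvable.comm_of_linear hHlin
      rw [Subgroup.commutator_eq_bot_iff_le_centralizer]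
      exact fun a ha => Subgroup.mem_centralizer_iff.2 fun b hb =>
        congrArg Subtype.val (hc.is_comm.comm (⟨b, hb⟩ : H) ⟨a, ha⟩)
    have hle : ∀ d ∈ Cfsg.charDegrees G, d ≤ max f (p ^ j) := fun d hd => by
      rcases hD d hd with rfl | rfl | rfl
      · exact le_max_of_le_right (Nat.one_le_pow _ _ hp.pos)
      · exact le_max_left _ _
      · exact le_max_right _ _
    have hlow : ∀ d ∈ Cfsg.charDegrees G, d < max f (p ^ j) → d = 1 ∨ d = min f (p ^ j) := by
      intro d hd hlt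
      rcases hD d hd with rfl | rfl | rfl
      · exact Or.inl rfl
      · exact Or.inr (by omega)
      · exact Or.inr (by omega)
    have h2 : ∀ η : Cfsg.IrrCharacter G, (∀ x ∈ H, (η : G → ℂ) x = (η : G → ℂ) 1) →
        Cfsg.charDegree (η : G → ℂ) ≤ min f (p ^ j) →
        ∀ z ∈ derivedSeries G 2, (η : G → ℂ) z = (η : G → ℂ) 1 := by
      intro η hη hd
      rw [derivedSeries_succ]
      refine kernel_step H _ (min f (p ^ j)) (fun η' _ hlt => h1 η' ?_) η hη hd
      rcases hlow _ (deg_mem η') (hlt.trans_le (min_le_max)) with h | h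
      · exact h
      · omega
    have hsmall : ∀ η : Cfsg.IrrCharacter G, (∀ x ∈ H, (η : G → ℂ) x = (η : G → ℂ) 1) →
        Cfsg.charDegree (η : G → ℂ) < max f (p ^ j) →
        ∀ z ∈ derivedSeries G 2, (η : G → ℂ) z = (η : G → ℂ) 1 := by
      intro η hη hlt
      refine h2 η hη ?_
      rcases hlow _ (deg_mem η) hlt with h | h
      · rw [h]; exact le_min (hf ▸ Nat.one_le_pow _ _ hp.pos) (Nat.one_le_pow _ _ hp.pos)
      · omega
    have h3 : derivedSeries G 3 ≤ H := le_of_all_kernels H _ fun η hη => by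
      rw [derivedSeries_succ]
      exact kernel_step H _ _ hsmall η hη (hle _ (deg_mem η))
    have h4 := commutator_le_derived H (derivedSeries G 2) hcop'
      (fun l => fix_linear H hp hcop hk _ (fun s hs _ η hη hlt =>
        hsmall η hη (hlt.trans_le (hle s hs))) l)
      (by rw [← derivedSeries_succ]; exact h3)
    rw [derivedSeries_succ]
    exact le_bot_iff.1 (hHab ▸ h4)
  · -- only one nonlinear degree is a power of `p`
    push Not at hn
    have hpow : ∀ d ∈ Cfsg.charDegrees G, (∃ i, d = p ^ i) → d = 1 ∨ d = f := by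
      rintro d hd ⟨i, hi⟩
      rcases hD d hd with rfl | rfl | rfl
      · exact Or.inl rfl
      · exact Or.inr rfl
      · exact absurd hi (hn i)
    have hsmall : ∀ η : Cfsg.IrrCharacter G, (∀ x ∈ H, (η : G → ℂ) x = (η : G → ℂ) 1) →
        Cfsg.charDegree (η : G → ℂ) < f →
        ∀ z ∈ derivedSeries G 1, (η : G → ℂ) z = (η : G → ℂ) 1 := by
      intro η hη hlt
      refine h1 η ((hpow _ (deg_mem η) (degree_pow H hp hk η hη)).resolve_right ?_)
      omega
    have h2 : derivedSeries G 2 ≤ H := le_of_all_kernels H _ fun η hη => by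
      rw [derivedSeries_succ]
      refine kernel_step H _ f hsmall η hη ?_
      rcases hpow _ (deg_mem η) (degree_pow H hp hk η hη) with h | h
      · rw [h, hf]; exact Nat.one_le_pow _ _ hp.pos
      · exact h.le
    have h3 := commutator_le_derived H (derivedSeries G 1) hcop'
      (fun l => fix_linear H hp hcop hk _ (fun s hs hsp η hη hlt => hsmall η hη (by
        rcases hpow s hs hsp with h | h <;> have := charDegree_pos η <;> omega)) l)
      (by rw [← derivedSeries_succ]; exact h2)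
    refine derived_three_eq_bot (B := ⁅H, H⁆) ?_ (derived_two_sub H fun a ha b hb ha1 hb1 => ?_)
    · rw [derivedSeries_succ]; exact h3
    · obtain ⟨x1, x2, x3⟩ := hHdeg a ha ha1
      obtain ⟨y1, y2, y3⟩ := hHdeg b hb hb1
      exact eq_of_dvd x1 y1 x2 y2 x3 y3

theorem nilpotent_case {p : ℕ} [Fact p.Prime] (H : Subgroup G) [H.Normal] {k : ℕ}
    (hcop : (Nat.card H).Coprime p) (hk : H.index = p ^ k) {f n : ℕ}
    (hD : ∀ d ∈ Cfsg.charDegrees G, d = 1 ∨ d = f ∨ d = n) (hna : ¬ commutator G ≤ H) :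
    derivedSeries G 3 = ⊥ := by
  have hp : p.Prime := Fact.out
  obtain ⟨β, hβ⟩ : ∃ β : Cfsg.IrrCharacter (G ⧸ H), Cfsg.charDegree (β : G ⧸ H → ℂ) ≠ 1 := by
    by_contra hall
    push Not at hall
    have hc := ItoPSolvable.comm_of_linear hall
    refine hna ?_
    rw [commutator_def, Subgroup.commutator_le]
    intro a _ b _
    refine (QuotientGroup.eq_one_iff _).1 ?_
    show QuotientGroup.mk' H ⁅a, b⁆ = 1
    rw [map_commutatorElement, commutatorElement_eq_one_iff_mul_comm]
    exact hc.is_comm.comm _ _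
  haveI := Fintype.ofFinite (G ⧸ H)
  have h1 := charDegree_dvd_card β
  rw [← Subgroup.index_eq_card, hk] at h1
  obtain ⟨e, -, he⟩ := (Nat.dvd_prime_pow hp).1 h1
  rcases hD _ (mem_of_quotient H ⟨β, rfl⟩) with h | h | h
  · exact absurd h hβ
  · exact nilpotent_case_aux H hcop hk hD (h.symm.trans he)
  · exact nilpotent_case_aux H hcop hk (f := n) (n := f) (fun d hd => (hD d hd).imp_right Or.symm)
      (h.symm.trans he)

end Cfsg.Agent.BlocksChars.ThreeDegrees
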